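import Cfsg.Agent.H743.AH.RankOne
import Cfsg.Agent.H705.ComPSU
import Cfsg.Agent.H979.LieSplit

/-!
# S2451 for the groups `PSU₃(q)`, `q > 2` (helper743)

`notA_psuThree`, `notC_psuThree`.
-/

set_option autoImplicit false
set_option linter.unusedSectionVars false

namespace Cfsg.Agent.H743.AH.PSUThree

open Cfsg Cfsg.Agent.LieRecognition.RankOneAbstract Cfsg.Agent.H27.AH
open Cfsg.Agent.UThreeGen.MatGroup Cfsg.Agent.H705.PSU
open Cfsg.Agent.HKS.EndU (tor tmat tor_val tor_mem act tor_emb ci wel_tor exists_tor tor_mem_center sne tor_conj)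

variable {F : Type*} [Field F] [Fintype F] {q : ℕ} {σ : F →+* F} [hσ : Fact (∀ x, σ (σ x) = x)]
  {M : Type*} [Group M] {π : SUG σ →* M}

/-- the elements of the unipotent radical commuting with an element of `B` with nontrivial torus part have `a = 0` -/
theorem a_eq_zero (E : Mod q π) {l : Fˣ} (hl : π (tor σ l) ≠ 1) {x y : HG σ}
    (h : π (emb σ x) * π (tor σ l) * π (emb σ y) = π (emb σ y) * (π (emb σ x) * π (tor σ l))) : y.a = 0 := by
  have h1 : π (emb σ x) * (π (tor σ l) * π (emb σ y) * (π (tor σ l))⁻¹) = π (emb σ y) * π (emb σ x) := by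
    calc π (emb σ x) * (π (tor σ l) * π (emb σ y) * (π (tor σ l))⁻¹) =
        (π (emb σ x) * π (tor σ l) * π (emb σ y)) * (π (tor σ l))⁻¹ := by group
      _ = _ := by rw [h]; group
  rw [tor_conj, ← map_mul, ← map_mul, ← map_mul, ← map_mul] at h1
  have h2 := congrArg HG.a (E.emb_inj h1)
  have h3 : x.a + (l : F) ^ 2 / σ (l : F) * y.a = y.a + x.a := h2
  by_contra hy
  have h4 : (l : F) ^ 2 / σ (l : F) = 1 := mul_right_cancel₀ hy (by linear_combination h3)
  apply hl
  rw [E.ker]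
  exact tor_mem_center ((div_eq_one_iff_eq (sne l)).1 h4)

theorem notA (E : Mod q π) {p : ℕ} [hp : Fact p.Prime] [CharP F p] [Finite M] (hq : 1 < q)
    (hS : FixBN.HasSplit p M) : NotA p M := by
  obtain ⟨P, hP⟩ := E.exists_syl (r := p) hq
  refine notA_of_data hS E.data P hP (E.unip_ne hq) ?_
  intro u hu t ht htw ht1 X hX hXx
  obtain ⟨l, rfl⟩ := E.mem_two_iff ht htw
  obtain ⟨_, ⟨x, rfl⟩, rfl⟩ := hu
  rw [E.card_unip]
  have hex : ∀ y : X, ∃ z : HG σ, (y : M) = π (emb σ z) ∧ z.a = 0 := by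
    intro y
    obtain ⟨_, ⟨z, rfl⟩, hz⟩ := hX y.2
    refine ⟨z, hz.symm, a_eq_zero E ht1 (x := x) ?_⟩
    have := hXx y y.2
    rwa [← hz] at this
  choose f hf hfa using hex
  have h1 : Nat.card X ≤ q := by
    rw [← HKS.EndU.card_anti E.card E.pow]
    refine Nat.card_le_card_of_injective (fun y => (⟨(f y).b, by rw [(f y).h, hfa y, zero_mul]⟩ :
      {b : F // b + σ b = 0})) fun y z hyz => ?_
    apply Subtype.ext
    rw [hf y, hf z]
    have h2 : f y = f z := by
      ext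
      · rw [hfa, hfa]
      · exact congrArg Subtype.val hyz
    rw [h2]
  calc Nat.card X ^ 2 ≤ q ^ 2 := Nat.pow_le_pow_left h1 2
    _ < q ^ 3 := Nat.pow_lt_pow_right hq (by norm_num)

theorem notC (E : Mod q π) {p : ℕ} [hp : Fact p.Prime] [CharP F p] [Finite M] [IsSimpleGroup M] (hq : 2 < q) :
    NotC p M := by
  obtain ⟨P, hP⟩ := E.exists_syl (r := p) (by omega)
  have hcomm : ∀ k l : Fˣ, π (tor σ k) * π (tor σ l) = π (tor σ l) * π (tor σ k) := by
    intro k l
    rw [← map_mul, ← map_mul, ← map_mul, ← map_mul, mul_comm]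
  have hwt : ∀ l : Fˣ, (π (wel σ))⁻¹ * π (tor σ l) * π (wel σ) = π (tor σ (ci σ l)) := by
    intro l
    rw [← map_inv, ← map_mul, ← map_mul, wel_inv, wel_tor]
  refine notC_of_data E.data P hP ?_ ?_ ?_
  · intro s hs t ht hsw htw
    obtain ⟨k, rfl⟩ := E.mem_two_iff hs hsw
    obtain ⟨l, rfl⟩ := E.mem_two_iff ht htw
    exact hcomm k l
  · intro t ht htw
    obtain ⟨l, rfl⟩ := E.mem_two_iff ht htw
    rw [hwt, hwt]
    exact (two_mem _).1
  · obtain ⟨l₀, hl₀, hord, -⟩ := E.exists_generator (by omega)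
    refine ⟨π (tor σ l₀), (two_mem l₀).1, (two_mem l₀).2, fun he => ?_⟩
    rw [hwt] at he
    obtain ⟨m, hm⟩ : ∃ m : Fˣ, m = l₀ * (ci σ l₀)⁻¹ := ⟨_, rfl⟩
    have h1 : π (tor σ m) = 1 := by
      rw [hm, map_mul, map_mul, map_inv, map_inv, he, mul_inv_cancel]
    have hmv : (m : F) = (l₀ : F) * σ (l₀ : F) := by
      rw [hm, Units.val_mul, Units.val_inv_eq_inv_val, Cfsg.Agent.HKS.EndU.ci_val, inv_inv]
    have hsm : σ (m : F) = (m : F) := by
      rw [hmv, map_mul, hσ.out, mul_comm]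
    have h2 : (m : F) ^ 2 / σ (m : F) = 1 := by
      obtain ⟨x, hx⟩ := E.exists_ne
      have h3 : π (tor σ m) * π (emb σ x) * (π (tor σ m))⁻¹ = π (emb σ x) := by rw [h1]; simp
      rw [tor_conj] at h3
      have h4 := congrArg HG.a (E.emb_inj h3)
      have h5 : (m : F) ^ 2 / σ (m : F) * x.a = x.a := h4
      exact mul_right_cancel₀ hx (by rw [h5, one_mul])
    rw [hsm, pow_two, mul_div_assoc, div_self m.ne_zero, mul_one] at h2
    have h3 : l₀ ^ (q + 1) = 1 := by
      apply Units.ext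
      rw [Units.val_pow_eq_pow_val, Units.val_one, pow_succ', ← E.pow, ← hmv, h2]
    have h4 := orderOf_dvd_of_pow_eq_one h3
    rw [hord] at h4
    have h5 := Nat.le_of_dvd (by omega) h4
    have h6 : 2 * (q + 1) ≤ (q - 1) * (q + 1) := Nat.mul_le_mul_right _ (by omega)
    omega

/-- **(A) for `PSU₃(q)`.** -/
theorem notA_psuThree {F : Type*} [Field F] [Fintype F] {p q : ℕ} [Fact p.Prime] [CharP F p]
    (hF : Fintype.card F = q ^ 2) (hq : 1 < q) (hS : FixBN.HasSplit p (PSU 3 F q)) : NotA p (PSU 3 F q) := by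
  obtain ⟨σ, hσ, π, E⟩ := exists_mod F hF hq
  have : Finite (PSU 3 F q) := by
    unfold Cfsg.PSU
    infer_instance
  exact notA E hq hS

/-- **(C) for `PSU₃(q)`.** -/
theorem notC_psuThree {F : Type*} [Field F] [Fintype F] {p q : ℕ} [Fact p.Prime] [CharP F p]
    (hF : Fintype.card F = q ^ 2) (hq : 2 < q) [IsSimpleGroup (PSU 3 F q)] : NotC p (PSU 3 F q) := by
  obtain ⟨σ, hσ, π, E⟩ := exists_mod F hF (by omega : 1 < q)
  have : Finite (PSU 3 F q) := by
    unfold Cfsg.PSU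
    infer_instance
  exact notC E hq

end Cfsg.Agent.H743.AH.PSUThree
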