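import Cfsg.Agent.H743.AH.RankOne
import Cfsg.Agent.H705.ComRee
import Cfsg.Agent.H979.LieSplit

/-!
# S2451 for the small Ree groups (helper743)

`notA_ree`, `notC_ree`.
-/

set_option autoImplicit false
set_option linter.unusedSectionVars false

namespace Cfsg.Agent.H743.AH.Ree

open Cfsg Cfsg.Agent.LieRecognition.RankOneAbstract Cfsg.Agent.H255.RankOne Cfsg.Agent.H27.AH Cfsg.Agent.H71.RoRee
open Cfsg.Agent.LieRecognition.ReeAbs Cfsg.Agent.LieRecognition.ReeSylowThree Cfsg.Agent.LieRecognition.ReeSplit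
open Cfsg.Agent.FixBN.RankOneRee

variable {K : Type*} [Field K] {G : Type*} [Group G] {m : ℕ} {U : K → K → K → G} {h : Kˣ → G} {n : G}

theorem unip_ne [Fintype K] (D : Data m U h n) : uSub D ≠ ⊥ := by
  intro hb
  have h1 : Nat.card (uSub D) = 1 := by rw [hb]; exact Subgroup.card_bot
  rw [card_uSub] at h1
  have h2 : 1 < Fintype.card K := Fintype.one_lt_card
  have h3 := Nat.one_lt_pow (n := 3) (by norm_num) h2
  omega

theorem eq_one [Fintype K] (hK : Fintype.card K = 3 ^ (2 * m + 1)) {a : Kˣ} (ha : (a : K) ^ (3 ^ (m + 1)) = 1) :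
    a = 1 := by
  have hchar := charP_three hK
  have h3 : Fact (Nat.Prime 3) := ⟨Nat.prime_three⟩
  apply Units.ext
  apply (iterateFrobenius K 3 (m + 1)).injective
  rw [Units.val_one, map_one, iterateFrobenius_def]
  exact ha

/-- the centraliser in `U` of an element of `B` with nontrivial torus part has at most `q` elements -/
theorem small [Fintype K] (hK : Fintype.card K = 3 ^ (2 * m + 1)) (D : Data m U h n) {t₀ u₀ v₀ : K} {a : Kˣ}
    (ha : a ≠ 1) {X : Subgroup G} (hX : X ≤ uSub D)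
    (hXx : ∀ y ∈ X, (U t₀ u₀ v₀ * h a) * y = y * (U t₀ u₀ v₀ * h a)) : Nat.card X ≤ Fintype.card K := by
  have h0 : (0 : K) ^ 3 ^ (m + 1) = 0 := zero_pow (by positivity)
  have key : ∀ t u v, U t u v ∈ X → t = 0 ∧ (a : K) ^ (3 ^ (m + 1) + 3) * u = u ∧
      (a : K) ^ (2 * 3 ^ (m + 1) + 3) * v = v - u * t₀ := by
    intro t u v hy
    have h1 : U t₀ u₀ v₀ * (h a * U t u v * (h a)⁻¹) = U t u v * U t₀ u₀ v₀ := by
      calc U t₀ u₀ v₀ * (h a * U t u v * (h a)⁻¹) = (U t₀ u₀ v₀ * h a * U t u v) * (h a)⁻¹ := by group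
        _ = _ := by rw [hXx _ hy]; group
    rw [h_conj D, D.U_mul, D.U_mul] at h1
    obtain ⟨h2, h3, h4⟩ := U_injective D h1
    have ht : t = 0 := by
      by_contra ht
      have h5 : t * (a : K) ^ (3 ^ (m + 1)) = t * 1 := by linear_combination h2
      exact ha (eq_one hK (mul_left_cancel₀ ht h5))
    subst ht
    simp only [mul_zero, zero_mul, h0, sub_zero, add_zero, zero_pow (two_ne_zero)] at h3 h4
    refine ⟨rfl, by linear_combination h3, by linear_combination h4⟩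
  by_cases h2 : (a : K) ^ (3 ^ (m + 1) + 3) = 1
  · have h3 : (a : K) ^ (2 * 3 ^ (m + 1) + 3) ≠ 1 := by
      intro h3
      apply ha
      apply eq_one hK
      have h4 : (a : K) ^ (2 * 3 ^ (m + 1) + 3) = (a : K) ^ (3 ^ (m + 1) + 3) * (a : K) ^ (3 ^ (m + 1)) := by
        rw [← pow_add]; congr 1; ring
      rw [h3, h2, one_mul] at h4
      exact h4.symm
    have hex : ∀ y : X, ∃ u v : K, (y : G) = U 0 u v := by
      intro y
      obtain ⟨t, u, v, he⟩ := hX y.2
      have h5 : U t u v ∈ X := by rw [← he]; exact y.2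
      obtain ⟨rfl, -, -⟩ := key t u v h5
      exact ⟨u, v, he⟩
    choose fu fv hf using hex
    rw [← Nat.card_eq_fintype_card]
    refine Nat.card_le_card_of_injective fu fun y z hyz => ?_
    apply Subtype.ext
    have e1 := (key 0 (fu y) (fv y) (by rw [← hf y]; exact y.2)).2.2
    have e2 := (key 0 (fu z) (fv z) (by rw [← hf z]; exact z.2)).2.2
    have e3 : fv y = fv z := by
      have h6 : ((a : K) ^ (2 * 3 ^ (m + 1) + 3) - 1) * (fv y - fv z) = 0 := by
        rw [hyz] at e1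
        linear_combination e1 - e2
      rcases mul_eq_zero.1 h6 with h7 | h7
      · exact absurd (sub_eq_zero.1 h7) h3
      · exact sub_eq_zero.1 h7
    rw [hf y, hf z, hyz, e3]
  · have hex : ∀ y : X, ∃ v : K, (y : G) = U 0 0 v := by
      intro y
      obtain ⟨t, u, v, he⟩ := hX y.2
      have h5 : U t u v ∈ X := by rw [← he]; exact y.2
      obtain ⟨rfl, h6, -⟩ := key t u v h5
      have hu : u = 0 := by
        by_contra hu
        exact h2 (mul_right_cancel₀ hu (by rw [h6, one_mul]))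
      exact ⟨v, by rw [he, hu]⟩
    choose fv hf using hex
    rw [← Nat.card_eq_fintype_card]
    refine Nat.card_le_card_of_injective fv fun y z hyz => ?_
    apply Subtype.ext
    rw [hf y, hf z, hyz]

theorem notA [Fintype K] [Finite G] (hm : 1 ≤ m) (hK : Fintype.card K = 3 ^ (2 * m + 1)) (D : Data m U h n)
    (hS : FixBN.HasSplit 3 G) : NotA 3 G := by
  have : Fact (Nat.Prime 3) := ⟨Nat.prime_three⟩
  have R := ro hm hK D
  obtain ⟨P, hP⟩ := R.syl
  refine notA_of_data hS R.data P hP (unip_ne D) ?_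
  intro u hu t ht htw ht1 X hX hXx
  obtain ⟨a, rfl⟩ := torus D ht htw
  obtain ⟨t₀, u₀, v₀, rfl⟩ := hu
  have ha : a ≠ 1 := by
    rintro rfl
    exact ht1 D.h_one
  have h1 := small hK D ha hX hXx
  rw [card_uSub]
  have h2 : 1 < Fintype.card K := Fintype.one_lt_card
  calc Nat.card X ^ 2 ≤ Fintype.card K ^ 2 := Nat.pow_le_pow_left h1 2
    _ < Fintype.card K ^ 3 := Nat.pow_lt_pow_right h2 (by norm_num)

theorem notC [Fintype K] [Finite G] (hm : 1 ≤ m) (hK : Fintype.card K = 3 ^ (2 * m + 1)) (D : Data m U h n)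
    [IsSimpleGroup G] : NotC 3 G := by
  have : Fact (Nat.Prime 3) := ⟨Nat.prime_three⟩
  have R := ro hm hK D
  obtain ⟨P, hP⟩ := R.syl
  refine notC_of_data R.data P hP R.ab ?_ ?_
  · intro t ht htw
    obtain ⟨a, rfl⟩ := torus D ht htw
    rw [conj_h D, conj_h D, inv_inv]
    exact h_mem_bSub D a
  · obtain ⟨k₀, hk₀⟩ := IsCyclic.exists_generator (α := Kˣ)
    refine ⟨h k₀, h_mem_bSub D k₀, h_two D k₀, fun he => ?_⟩
    rw [conj_h D] at he
    have h1 : U 0 0 0 * h k₀⁻¹ = U 0 0 0 * h k₀ := by rw [he]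
    have h3 : k₀⁻¹ = k₀ := (D.inj₁ _ _ _ _ _ _ _ _ h1).2.2.2
    have h4 : k₀ ^ 2 = 1 := by rw [pow_two]; nth_rewrite 1 [← h3]; exact inv_mul_cancel k₀
    have h5 := orderOf_dvd_of_pow_eq_one h4
    rw [orderOf_eq_card_of_forall_mem_zpowers hk₀, Nat.card_units, Nat.card_eq_fintype_card, hK] at h5
    have h6 := Nat.le_of_dvd (by norm_num) h5
    have h7 : 3 ^ 3 ≤ 3 ^ (2 * m + 1) := Nat.pow_le_pow_right (by norm_num) (by omega)
    omega

/-- **(A) for the small Ree groups.** -/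
theorem notA_ree {G : Type*} [Group G] (h : Lie.IsoRee G) : NotA 3 G := by
  obtain ⟨K, i1, i2, m, hm, hK, ⟨e⟩⟩ := h
  obtain ⟨U, h, n, D⟩ := Cfsg.Agent.ChevalleyStructure.Ree.Data.exists_data hK
  have hfin : Finite ↥(Cfsg.Lie.twistedG2 K (3 ^ m)) := finite D
  exact NotA.of_equiv e (notA hm hK D (FixBN.ReeSplit.hasSplit_of_isoRee ⟨K, i1, i2, m, hm, hK, ⟨MulEquiv.refl _⟩⟩))

/-- **(C) for the small Ree groups.** -/
theorem notC_ree {G : Type*} [Group G] [IsSimpleGroup G] (h : Lie.IsoRee G) : NotC 3 G := by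
  obtain ⟨K, i1, i2, m, hm, hK, ⟨e⟩⟩ := h
  obtain ⟨U, h, n, D⟩ := Cfsg.Agent.ChevalleyStructure.Ree.Data.exists_data hK
  have hfin : Finite ↥(Cfsg.Lie.twistedG2 K (3 ^ m)) := finite D
  have hs : IsSimpleGroup ↥(Cfsg.Lie.twistedG2 K (3 ^ m)) := e.symm.isSimpleGroup
  exact NotC.of_equiv e (notC hm hK D)

end Cfsg.Agent.H743.AH.Ree
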