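import Cfsg.Agent.H743.AH.RankOne
import Cfsg.Agent.H705.ComSz
import Cfsg.Agent.H979.LieSplit

/-!
# S2451 for the Suzuki groups (helper743)

`notA_suzuki`, `notC_suzuki`.
-/

set_option autoImplicit false
set_option linter.unusedSectionVars false

namespace Cfsg.Agent.H743.AH.Suz

open Cfsg Cfsg.Agent.LieRecognition.RankOneAbstract Cfsg.Agent.H255.RankOne Cfsg.Agent.H27.AH
open Cfsg.Agent.LieRecognition.SzMatrix Cfsg.Agent.SuzukiRankOne

variable {F : Type} [Field F] {θ : F →+* F} {e : ℕ}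

theorem eq_one (H : Good F θ e) {k : Fˣ} (h5 : (k : F) ^ 2 * (θ k)⁻¹ = 1) : k = 1 := by
  have h6 : (k : F) ^ 2 = θ k := by
    have h3 : θ (k : F) ≠ 0 := theta_ne_zero θ k
    field_simp at h5
    exact h5
  have h7 : θ (θ (k : F)) = (k : F) ^ 2 := H.sq _
  rw [← h6, map_pow, ← h6] at h7
  have h8 : (k : F) ^ 2 = 1 := by
    have h5 : (k : F) ^ 2 * ((k : F) ^ 2 - 1) = 0 := by linear_combination h7
    rcases mul_eq_zero.1 h5 with h6 | h6
    · exact absurd h6 (pow_ne_zero 2 k.ne_zero)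
    · exact sub_eq_zero.1 h6
  apply Units.ext
  rw [Units.val_one]
  have h5 : ((k : F) - 1) ^ 2 = 0 := by
    have h0 := H.two
    linear_combination h8 + (1 - (k : F)) * h0
  exact sub_eq_zero.1 (pow_eq_zero_iff (two_ne_zero) |>.1 h5)

theorem unip_ne (H : Good F θ e) : H.unip ≠ ⊥ := by
  intro h
  have h1 : H.u 1 0 ∈ H.unip := H.u_mem_unip _ _
  rw [h, Subgroup.mem_bot, ← H.u_zero] at h1
  exact one_ne_zero (H.u_inj h1).1

/-- an element of `B` with nontrivial torus part has no fixed points in `U` -/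
theorem regular (H : Good F θ e) {a b c d : F} {k : Fˣ} (hk : k ≠ 1)
    (h : H.u c d * H.d k * H.u a b = H.u a b * (H.u c d * H.d k)) : H.u a b = 1 := by
  have h1 : H.u c d * (H.d k * H.u a b * (H.d k)⁻¹) = H.u a b * H.u c d := by
    calc H.u c d * (H.d k * H.u a b * (H.d k)⁻¹) = (H.u c d * H.d k * H.u a b) * (H.d k)⁻¹ := by group
      _ = _ := by rw [h]; group
  rw [H255.RoSz.d_conj, H.u_mul, H.u_mul] at h1
  obtain ⟨h2, h3⟩ := H.u_inj h1
  have ha : a = 0 := by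
    by_contra ha
    have h4 : a * ((k : F) ^ 2 * (θ k)⁻¹) = a * 1 := by linear_combination h2
    exact hk (eq_one H (mul_left_cancel₀ ha h4))
  subst ha
  have hb : b = 0 := by
    by_contra hb
    have h4 : b * θ (k : F) = b * 1 := by
      have h5 := h3
      simp only [zero_mul, mul_zero, add_zero, map_zero] at h5
      linear_combination h5
    apply hk
    apply Units.ext
    rw [Units.val_one]
    exact θ.injective (by rw [mul_left_cancel₀ hb h4, map_one])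
  rw [hb, H.u_zero]

theorem notA (H : Good F θ e) [Finite F] (hS : FixBN.HasSplit 2 ↥(Cfsg.Lie.Sz F e)) :
    NotA 2 ↥(Cfsg.Lie.Sz F e) := by
  have : Fact (Nat.Prime 2) := ⟨Nat.prime_two⟩
  have R := H255.RoSz.ro H
  obtain ⟨P, hP⟩ := R.syl
  refine notA_of_data hS R.data P hP (unip_ne H) ?_
  intro u hu t ht htw ht1 X hX hXx
  obtain ⟨k, rfl⟩ := H255.RoSz.mem_two_iff H ht htw
  obtain ⟨c, d, rfl⟩ := (H.mem_unip_iff _).1 hu
  have hk : k ≠ 1 := by
    rintro rfl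
    exact ht1 H.d_one
  have h1 : X = ⊥ := by
    rw [Subgroup.eq_bot_iff_forall]
    intro y hy
    obtain ⟨a, b, rfl⟩ := (H.mem_unip_iff _).1 (hX hy)
    exact regular H hk (hXx _ hy)
  rw [h1, Subgroup.card_bot, one_pow]
  by_contra h2
  exact unip_ne H (Subgroup.eq_bot_of_card_eq _ (le_antisymm (not_lt.1 h2) Nat.card_pos))

theorem notC (H : Good F θ e) [Finite F] (h2 : 3 < Nat.card F) [IsSimpleGroup ↥(Cfsg.Lie.Sz F e)] :
    NotC 2 ↥(Cfsg.Lie.Sz F e) := by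
  have : Fact (Nat.Prime 2) := ⟨Nat.prime_two⟩
  have R := H255.RoSz.ro H
  obtain ⟨P, hP⟩ := R.syl
  have hwd : ∀ k, H.w⁻¹ * H.d k * H.w = H.d k⁻¹ := by
    intro k
    rw [H.w_inv, H.w_mul_d, mul_assoc, H.w_mul_w, mul_one]
  refine notC_of_data R.data P hP R.ab ?_ ?_
  · intro t ht htw
    obtain ⟨k, rfl⟩ := H255.RoSz.mem_two_iff H ht htw
    rw [hwd, hwd, inv_inv]
    exact H.d_mem_borel k
  · obtain ⟨k₀, hk₀⟩ := IsCyclic.exists_generator (α := Fˣ)
    refine ⟨H.d k₀, H.d_mem_borel k₀, H255.RoSz.d_two H k₀, fun h => ?_⟩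
    rw [hwd] at h
    have h3 : k₀⁻¹ = k₀ := H.d_inj h
    have h4 : k₀ ^ 2 = 1 := by rw [pow_two]; nth_rewrite 1 [← h3]; exact inv_mul_cancel k₀
    have h5 := orderOf_dvd_of_pow_eq_one h4
    rw [orderOf_eq_card_of_forall_mem_zpowers hk₀, Nat.card_units] at h5
    have h6 := Nat.le_of_dvd (by norm_num) h5
    omega

/-- **(A) for the Suzuki groups.** -/
theorem notA_suzuki {G : Type*} [Group G] (h : Lie.IsoSuzuki G) : NotA 2 G := by
  obtain ⟨F, i1, i2, m, hm, hF, ⟨e⟩⟩ := h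
  have H := good hF
  have hs : IsSimpleGroup ↥(Cfsg.Lie.Sz F (2 ^ (m + 1))) := S1162.result hm hF
  exact NotA.of_equiv e (notA H (H979.LieSplit.Sz.hasSplit_of_isoSuzuki ⟨F, i1, i2, m, hm, hF, ⟨MulEquiv.refl _⟩⟩))

/-- **(C) for the Suzuki groups.** -/
theorem notC_suzuki {G : Type*} [Group G] (h : Lie.IsoSuzuki G) : NotC 2 G := by
  obtain ⟨F, i1, i2, m, hm, hF, ⟨e⟩⟩ := h
  have H := good hF
  have hs : IsSimpleGroup ↥(Cfsg.Lie.Sz F (2 ^ (m + 1))) := S1162.result hm hF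
  refine NotC.of_equiv e (notC H ?_)
  rw [Nat.card_eq_fintype_card, hF]
  calc 3 < 2 ^ 3 := by norm_num
    _ ≤ 2 ^ (2 * m + 1) := Nat.pow_le_pow_right (by norm_num) (by omega)

end Cfsg.Agent.H743.AH.Suz
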