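import Cfsg.Agent.H27.AH.Defs
import Cfsg.Agent.LieRecognition.RankOneAbstract

/-!
# S2451 for rank one groups (helper743)

Rank one Bruhat data `Data B U w`, `U` a Sylow `p`-subgroup:

* `notC_of_data` : **`NotC p G` if the two-point stabiliser is commutative and not centralised by `w`;**
* `notA_of_data` : **`NotA p G` if the centralisers in `U` of the `p`-regular elements of `B` are small.**
-/

set_option autoImplicit false
set_option linter.unusedSectionVars false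

namespace Cfsg.Agent.H743.AH

open Subgroup Cfsg.Agent.LieRecognition.RankOneAbstract Cfsg.Agent.H27.AH Cfsg.Agent.H330.ClassProd

variable {G : Type*} [Group G] {B U : Subgroup G} {w : G} {p : ℕ}

/-- `p`-elements of `B` lie in the normal Sylow subgroup `U` -/
theorem mem_of_pelt [Fact p.Prime] (P : Sylow p G) (hP : (P : Subgroup G) = U)
    (hn : ∀ b ∈ B, ∀ u ∈ U, b * u * b⁻¹ ∈ U) {b : G} (hb : b ∈ B) {k : ℕ} (hk : orderOf b = p ^ k) : b ∈ U := by
  have hN : ∀ z ∈ zpowers b, ∀ u ∈ U, z * u * z⁻¹ ∈ U := fun z hz => hn z ((zpowers_le.2 hb) hz)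
  have h1 : zpowers b ≤ normalizer (U : Set G) := by
    intro z hz
    rw [mem_normalizer_iff]
    intro u
    refine ⟨hN z hz u, fun h => ?_⟩
    have h2 := hN z⁻¹ (inv_mem hz) _ h
    have e : z⁻¹ * (z * u * z⁻¹) * z⁻¹⁻¹ = u := by group
    rwa [e] at h2
  have hz : IsPGroup p (zpowers b) := IsPGroup.of_card (n := k) (by rw [Nat.card_zpowers, hk])
  have hU : IsPGroup p U := by rw [← hP]; exact P.isPGroup'
  have h2 : IsPGroup p (zpowers b ⊔ U : Subgroup G) := hz.to_sup_of_normal_right' hU h1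
  have h3 := P.is_maximal' h2 (by rw [hP]; exact le_sup_right)
  have h4 : b ∈ (zpowers b ⊔ U : Subgroup G) := mem_sup_left (mem_zpowers b)
  rw [h3, hP] at h4
  exact h4

/-- an element outside of `B` is conjugate to an element of `w B` -/
theorem exists_conj (D : Data B U w) [hs : IsSimpleGroup G] {g : G} (hg : g ≠ 1) :
    ∃ x : G, ∃ β ∈ B, x * g * x⁻¹ = w * β := by
  obtain ⟨x, hx⟩ : ∃ x : G, x * g * x⁻¹ ∉ B := by
    by_contra hcon
    push Not at hcon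
    have h1 : g ∈ B.normalCore := hcon
    rcases hs.eq_bot_or_eq_top_of_normal B.normalCore inferInstance with h | h
    · rw [h, mem_bot] at h1
      exact hg h1
    · apply D.w_not_mem
      have h2 : w ∈ B.normalCore := by rw [h]; trivial
      exact normalCore_le B h2
  obtain ⟨s, hs', h⟩ := D.bruhat _ hx
  refine ⟨s⁻¹ * x, ((s * w)⁻¹ * (x * g * x⁻¹)) * s, mul_mem h (D.le hs'), ?_⟩
  group

/-- decomposition of the elements of `B` -/
theorem exists_tor (D : Data B U w) {b : G} (hb : b ∈ B) :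
    ∃ u ∈ U, ∃ t ∈ B, w⁻¹ * t * w ∈ B ∧ b = u * t := by
  have h1 : b * w ∉ B := fun h => D.w_not_mem (by
    have := B.mul_mem (B.inv_mem hb) h
    rwa [inv_mul_cancel_left] at this)
  obtain ⟨s, hs, h⟩ := D.bruhat _ h1
  refine ⟨s, hs, s⁻¹ * b, mul_mem (inv_mem (D.le hs)) hb, ?_, by group⟩
  have e : w⁻¹ * (s⁻¹ * b) * w = (s * w)⁻¹ * (b * w) := by group
  rwa [e]

/-- **(C) in rank one.** -/
theorem notC_of_data [Finite G] [hp : Fact p.Prime] [hs : IsSimpleGroup G] (D : Data B U w) (P : Sylow p G)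
    (hP : (P : Subgroup G) = U)
    (hab : ∀ s ∈ B, ∀ t ∈ B, w⁻¹ * s * w ∈ B → w⁻¹ * t * w ∈ B → s * t = t * s)
    (hw : ∀ t ∈ B, w⁻¹ * t * w ∈ B → w⁻¹ * (w⁻¹ * t * w) * w ∈ B)
    (hne : ∃ t ∈ B, w⁻¹ * t * w ∈ B ∧ w⁻¹ * t * w ≠ t) : NotC p G := by
  intro a b c ha hb hc hab' ⟨k, hk⟩
  obtain ⟨x, β, hβ, hx⟩ := exists_conj D (inv_ne_one.2 ha)
  obtain ⟨y, β', hβ', hy⟩ := exists_conj D hb
  obtain ⟨u, hu, t, ht, htw, rfl⟩ := exists_tor D hβ
  obtain ⟨u', hu', t', ht', htw', rfl⟩ := exists_tor D hβ'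
  have key : ∀ h ∈ B, w⁻¹ * h * w ∈ B → t⁻¹ * (w⁻¹ * h * w) * t' * h⁻¹ = 1 := by
    intro h hh hhw
    have h1 := hab' x (h * y)
    have h2 : orderOf (x * a * x⁻¹ * (h * y * b * (h * y)⁻¹)) = p ^ k := by
      rw [orderOf_of_isConj h1, hk]
    have e1 : x * a * x⁻¹ = (u * t)⁻¹ * w⁻¹ := by
      have : x * a * x⁻¹ = (x * a⁻¹ * x⁻¹)⁻¹ := by group
      rw [this, hx]
      group
    have e2 : h * y * b * (h * y)⁻¹ = h * w * (u' * t') * h⁻¹ := by
      have : h * y * b * (h * y)⁻¹ = h * (y * b * y⁻¹) * h⁻¹ := by group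
      rw [this, hy]
      group
    rw [e1, e2] at h2
    have e3 : (u * t)⁻¹ * w⁻¹ * (h * w * (u' * t') * h⁻¹) =
        (t⁻¹ * u⁻¹ * t⁻¹⁻¹) * ((t⁻¹ * (w⁻¹ * h * w)) * u' * (t⁻¹ * (w⁻¹ * h * w))⁻¹) *
          (t⁻¹ * (w⁻¹ * h * w) * t' * h⁻¹) := by group
    have h3 : t⁻¹ * (w⁻¹ * h * w) * t' * h⁻¹ ∈ B :=
      mul_mem (mul_mem (mul_mem (inv_mem ht) hhw) ht') (inv_mem hh)
    have h4 : t⁻¹ * u⁻¹ * t⁻¹⁻¹ ∈ U := D.norm _ (inv_mem ht) _ (inv_mem hu)
    have h5 : (t⁻¹ * (w⁻¹ * h * w)) * u' * (t⁻¹ * (w⁻¹ * h * w))⁻¹ ∈ U :=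
      D.norm _ (mul_mem (inv_mem ht) hhw) _ hu'
    rw [e3] at h2
    have h6 := mem_of_pelt P hP D.norm (mul_mem (D.le (mul_mem h4 h5)) h3) h2
    have h7 := mul_mem (inv_mem (mul_mem h4 h5)) h6
    rw [inv_mul_cancel_left] at h7
    refine D.inter _ h7 ?_
    have e4 : w⁻¹ * (t⁻¹ * (w⁻¹ * h * w) * t' * h⁻¹) * w =
        (w⁻¹ * t * w)⁻¹ * (w⁻¹ * (w⁻¹ * h * w) * w) * (w⁻¹ * t' * w) * (w⁻¹ * h * w)⁻¹ := by group
    rw [e4]
    exact mul_mem (mul_mem (mul_mem (inv_mem htw) (hw h hh hhw)) htw') (inv_mem hhw)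
  have h1 : t' = t := by
    have h2 := key 1 (one_mem B) (by rw [mul_one, inv_mul_cancel]; exact one_mem B)
    have e : t⁻¹ * (w⁻¹ * 1 * w) * t' * (1 : G)⁻¹ = t⁻¹ * t' := by group
    rw [e] at h2
    exact (inv_mul_eq_one.1 h2).symm
  obtain ⟨h, hh, hhw, hhne⟩ := hne
  apply hhne
  have h2 := key h hh hhw
  rw [h1] at h2
  have h3 : (w⁻¹ * h * w) * t = t * (w⁻¹ * h * w) := hab _ hhw _ ht (hw h hh hhw) htw
  rw [mul_assoc t⁻¹, h3, inv_mul_cancel_left] at h2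
  exact mul_inv_eq_one.1 h2

/-- `U` is a TI subgroup -/
theorem mem_of_ti (D : Data B U w) {x y : G} (hy : y ∈ U) (hy1 : y ≠ 1) (hxy : x * y * x⁻¹ ∈ U) : x ∈ B := by
  by_contra hx
  have hx' : x⁻¹ ∉ B := fun h => hx (by simpa using inv_mem h)
  obtain ⟨s, hs, h⟩ := D.bruhat _ hx'
  apply hy1
  have h1 : w⁻¹ * (s⁻¹ * y * s) * w ∈ B := by
    have h2 : w⁻¹ * (s⁻¹ * y * s) * w = ((s * w)⁻¹ * x⁻¹) * (x * y * x⁻¹) * ((s * w)⁻¹ * x⁻¹)⁻¹ := by group
    rw [h2]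
    exact mul_mem (mul_mem h (D.le hxy)) (inv_mem h)
  have h2 := D.inter _ (mul_mem (mul_mem (inv_mem hs) hy) hs) h1
  have h3 : y = s * (s⁻¹ * y * s) * s⁻¹ := by group
  rw [h3, h2]
  group

/-- **(A) in rank one.** -/
theorem notA_of_data [Finite G] [hp : Fact p.Prime] (hS : FixBN.HasSplit p G) (D : Data B U w) (P : Sylow p G)
    (hP : (P : Subgroup G) = U) (hU : U ≠ ⊥)
    (hC : ∀ u ∈ U, ∀ t ∈ B, w⁻¹ * t * w ∈ B → t ≠ 1 → ∀ X : Subgroup G, X ≤ U →
      (∀ y ∈ X, (u * t) * y = y * (u * t)) → Nat.card X ^ 2 < Nat.card U) : NotA p G := by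
  have hUc : Nat.card U = p ^ (Nat.card G).factorization p := by
    rw [← hP]
    exact P.card_eq_multiplicity
  have hU1 : 1 < Nat.card U := by
    by_contra h
    have h1 : Nat.card U = 1 := le_antisymm (not_lt.1 h) Nat.card_pos
    exact hU (Subgroup.eq_bot_of_card_eq _ h1)
  have key : ∀ x : G, x ≠ 1 → ¬ p ∣ orderOf x → cv p x + cv p x < (Nat.card G).factorization p := by
    intro x hx hxp
    obtain ⟨X, hX⟩ := Sylow.exists_subgroup_card_pow_prime (G := centralizer ({x} : Set G)) p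
      (n := cv p x) (Nat.ordProj_dvd _ _)
    obtain ⟨Y, hYd⟩ : ∃ Y : Subgroup G, Y = X.map (centralizer ({x} : Set G)).subtype := ⟨_, rfl⟩
    have hY : Nat.card Y = p ^ cv p x := by
      rw [hYd, card_map_of_injective (subtype_injective _), hX]
    have hYx : ∀ y ∈ Y, x * y = y * x := by
      rw [hYd]
      rintro _ ⟨y, -, rfl⟩
      exact (mem_centralizer_singleton_iff.1 y.2).symm
    obtain ⟨Q, hQ⟩ := (IsPGroup.of_card hY).exists_le_sylow
    obtain ⟨g, hg⟩ := MulAction.exists_smul_eq G Q P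
    have hgU : ∀ y ∈ Y, g * y * g⁻¹ ∈ U := by
      intro y hy
      rw [← hP, ← hg, Sylow.coe_subgroup_smul, mem_pointwise_smul_iff_inv_smul_mem]
      have e : (MulAut.conj g)⁻¹ • (g * y * g⁻¹) = y := by
        rw [MulAut.smul_def, MulAut.conj_inv_apply]
        group
      rw [e]
      exact hQ hy
    obtain ⟨X', hX'd⟩ : ∃ X' : Subgroup G, X' = Y.map (MulAut.conj g).toMonoidHom := ⟨_, rfl⟩
    have hX'c : Nat.card X' = p ^ cv p x := by
      rw [hX'd, card_map_of_injective (MulAut.conj g).injective, hY]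
    have hX'U : X' ≤ U := by
      rw [hX'd]
      rintro _ ⟨y, hy, rfl⟩
      exact hgU y hy
    have hX'x : ∀ y ∈ X', (g * x * g⁻¹) * y = y * (g * x * g⁻¹) := by
      rw [hX'd]
      rintro _ ⟨y, hy, rfl⟩
      change g * x * g⁻¹ * (g * y * g⁻¹) = g * y * g⁻¹ * (g * x * g⁻¹)
      calc g * x * g⁻¹ * (g * y * g⁻¹) = g * (x * y) * g⁻¹ := by group
        _ = g * (y * x) * g⁻¹ := by rw [hYx y hy]
        _ = _ := by group
    have h2 : Nat.card X' ^ 2 < Nat.card U := by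
      by_cases hbot : X' = ⊥
      · rw [hbot, card_bot, one_pow]
        exact hU1
      · obtain ⟨y, hy, hy1⟩ : ∃ y ∈ X', y ≠ 1 := by
          obtain ⟨⟨y, hy⟩, hy1⟩ := Subgroup.ne_bot_iff_exists_ne_one.1 hbot
          exact ⟨y, hy, fun h => hy1 (Subtype.ext h)⟩
        have hB : g * x * g⁻¹ ∈ B := by
          refine mem_of_ti D (hX'U hy) hy1 ?_
          rw [hX'x _ hy, mul_inv_cancel_right]
          exact hX'U hy
        obtain ⟨u, hu, t, ht, htw, he⟩ := exists_tor D hB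
        refine hC u hu t ht htw ?_ X' hX'U (by rw [← he]; exact hX'x)
        rintro rfl
        rw [mul_one] at he
        have h3 : g * x * g⁻¹ ∈ U := by rw [he]; exact hu
        have hUp : IsPGroup p U := by rw [← hP]; exact P.isPGroup'
        obtain ⟨k, hk⟩ := (IsPGroup.iff_orderOf.1 hUp) ⟨_, h3⟩
        rw [Subgroup.orderOf_mk, orderOf_of_isConj (isConj_iff.2 ⟨g, rfl⟩)] at hk
        rcases k with _ | k
        · rw [pow_zero, orderOf_eq_one_iff] at hk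
          exact hx hk
        · exact hxp (by rw [hk]; exact dvd_pow_self p (Nat.succ_ne_zero k))
    rw [hX'c, hUc, ← pow_mul] at h2
    have h3 := (Nat.pow_lt_pow_iff_right hp.out.one_lt).1 h2
    omega
  intro a b c ha hb hc hab h1 h2 h3
  have h4 := hab.cv_add hS h1 h2
  have h5 := key a ha h1
  have h6 := key b hb h2
  omega

end Cfsg.Agent.H743.AH
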