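import Cfsg.Agent.H743.AH.TwFRC
import Cfsg.Agent.KFacts.TwF4.AutNorm
import Cfsg.Agent.KFacts.TwF4.Perf
import Cfsg.Agent.KFacts.TwF4.TorFix
import Cfsg.Agent.KFacts.TwF4.SylU
import Cfsg.Agent.H762.TwFPL
import Cfsg.Agent.H743.AH.RankOne
import Cfsg.Agent.H979.LieSplit

/-!
# S2451, (A) for the groups `²F₄(q)`, `q > 2` (helper743)

* `cent_aux` : centralisers of the elements of odd order;
* `notA_twF4` : **`NotA 2 G`.**
-/

set_option autoImplicit false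
set_option linter.unusedSectionVars false

namespace Cfsg.Agent.H743.AH.TwF

open Cfsg.Agent.SplitTwo Cfsg.Agent.SplitTwo.ZS Cfsg.Agent.TitsThree.RankTwoZ Cfsg.Agent.KFacts.TwF4
open Cfsg.Agent.KFacts.TwF4.Full Cfsg.Agent.KFacts.TwF4.SylU Cfsg.Agent.KFacts.TwF4.Inv Cfsg.Agent.KFacts.TwF4.Arc
open Cfsg.Agent.KFacts.TwF4.Perf (Q_norm NO_norm NO_HO X1_HO n1_mem_HO HO_le_J HO_form)
open Cfsg.Agent.SplitTwo.RootSysZ Subgroup

universe u

variable {F : Type*} [Field F] {σ : F →+* F} {G : Type u} [Group G] (S : Full σ G)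

theorem mem_T4_of_PL {t : G} (ht : t ∈ S.T) (h5 : t ∈ S.PL) : t ∈ S.Tk 4 := by
  refine ⟨ht, Subgroup.mem_centralizer_iff.2 fun y hy => ?_⟩
  obtain ⟨c, d, rfl⟩ := S.mem_T.1 ht
  have h6 := S.comm_PL h5 (z := S.e 2 0 1) ⟨1, rfl⟩
  have h7 := S.h_e c d 2 0 1
  rw [h6, mul_inv_cancel_right, mul_one] at h7
  have h8 : chE σ 2 c d = 1 := S.unit_eq_one (Units.ext (S.injE 2 _ _ _ _ h7).2.symm)
  obtain ⟨p, u, rfl⟩ := S.X4 hy
  have h9 := S.h_e c d 2 p u
  rw [h8, Units.val_one, one_mul, map_one, one_mul, one_mul, mul_inv_eq_iff_eq_mul] at h9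
  exact h9.symm

theorem T4_le_PL [Finite F] : S.Tk 4 ≤ S.PL := by
  intro t ht
  rw [← S.centralizer_z (z := S.e 2 0 1) ⟨1, rfl⟩ (fun h => one_ne_zero (S.e_eq_one h).2),
    Subgroup.mem_centralizer_singleton_iff]
  exact S.Tk_comm ht (S.mX4 0 1)

theorem Tk_ne_bot (hF : ∃ c : Fˣ, c ≠ 1) (k : ℤ) : S.Tk k ≠ ⊥ := by
  obtain ⟨t, ht, ht1⟩ := AutTau.exists_Tk S hF k
  intro h
  rw [h, mem_bot] at ht
  exact ht1 ht

theorem rcPL [Finite F] [Finite G] (hF : ∃ c : Fˣ, c ≠ 1) (hR : S.R.p = 2) :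
    RC S.PL (J S.XZ 1 8) S.Q (S.XZ 8) (S.XZ 4) (S.Tk 4) S.n2 where
  VM := J_mono (by norm_num) le_rfl
  RV := J_mono le_rfl (by norm_num)
  YV := X_le_J (by norm_num) le_rfl
  DR := X_le_J (by norm_num) (by norm_num)
  TM := T4_le_PL S
  nM := S.n2_mem
  split := fun v hv => by
    obtain ⟨y, hy, r, hr, e⟩ := S.zsys8.split_rr (a := 1) (b := 8) (by norm_num) (by norm_num) hv
    exact ⟨y, hy, r, hr, e⟩
  RY := fun y hy hy' => S.zsys8.inter' (k := 8) hy hy'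
  tv := fun t ht x hx => S.T_conj_J ht.1 hx
  ty := fun t ht x hx => S.T_conj ht.1 8 hx
  rn := fun m hm x hx => Q_norm S hm hx
  comm := fun s hs t ht => S.T_comm hs.1 ht.1
  p2 := isPGroup_J S.zsys8 (two_X S hR) 8 1 8 (by norm_num) (by norm_num)
  odd := Odd.of_dvd_nat (AutNorm.odd_T S) (Subgroup.card_dvd_of_le (S.Tk_le 4))
  inv := fun t ht => S.n2_Tk ht
  form := fun g hg => by
    rcases S.form_PL hg with ⟨b, hb, t, ht, e⟩ | ⟨b, hb, t, ht, x, hx, e⟩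
    · have hbP : b ∈ S.PL := J_mono (by norm_num) le_rfl hb
      have : t = b⁻¹ * g := by rw [e]; group
      exact Or.inl ⟨b, hb, t, mem_T4_of_PL S ht (by rw [this]; exact mul_mem (inv_mem hbP) hg), e⟩
    · have hbP : b ∈ S.PL := J_mono (by norm_num) le_rfl hb
      have hxP : x ∈ S.PL := mem_J hx (by norm_num) le_rfl
      have : t = b⁻¹ * g * x⁻¹ * S.n2⁻¹ := by rw [e]; group
      exact Or.inr ⟨b, hb, t, mem_T4_of_PL S ht (by
        rw [this]; exact mul_mem (mul_mem (mul_mem (inv_mem hbP) hg) (inv_mem hxP)) (inv_mem S.n2_mem)), x,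
        mem_J hx (by norm_num) le_rfl, e⟩
  oppY := fun y hy h => by
    have h1 : S.n2 * y * S.n2⁻¹ ∈ S.XZ 0 := S.n2_refl.mem' hy (by norm_num)
    have h2 := (S.J07_inf_UT h1 h (one_mem _) (by rw [mul_one])).1
    exact conj_eq_one_iff.1 h2
  fpf := fun t ht ht1 y hy h => S.fpf (k := 4) (j := 8) (by norm_num) ht ht1 hy h
  fix := fun t ht ht1 x hx h => S.fix_J ht ht1 (a := 1) (b := 7) (by norm_num) (by norm_num) (by norm_num) hx h
  Yne := S.zsys8.ne_bot 8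
  Tne := Tk_ne_bot S hF 4

/-- `X_9 ∩ U = 1` -/
theorem inter_nine (hF : ∃ c : Fˣ, c ≠ 1) {x : G} (hx : x ∈ S.XZ 9) (hx' : x ∈ J S.XZ 1 8) : x = 1 := by
  have Z8 := S.zsys8
  obtain ⟨r, hr, y, hy, e⟩ := Z8.split_ll (a := 1) (b := 8) (by norm_num) (by norm_num) hx'
  have hr9 : r ∈ J S.XZ 2 9 := by
    have : r = x * y⁻¹ := by rw [e]; group
    rw [this]
    exact mul_mem (mem_J hx (by norm_num) le_rfl) (inv_mem (J_mono le_rfl (by norm_num) hy))
  obtain ⟨c, hc⟩ := hF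
  have ht1 : S.h c c⁻¹ ∈ S.Tk 1 := S.mem_Tk_one.2 ⟨c, rfl⟩
  have ht9 : S.h c c⁻¹ ∈ S.Tk 9 := by
    have := (AutTau.mem_Tk_odd S 4 c c⁻¹).2 (by
      show chE σ 4 c c⁻¹ * chE σ 5 c c⁻¹ = 1
      rw [chE_four, chE_five, inv_inv, inv_mul_cancel])
    norm_num at this
    exact this
  have hne : S.h c c⁻¹ ≠ 1 := by
    intro h
    rw [← S.h_one] at h
    exact hc (S.h_inj _ _ _ _ h).1
  have h1 := S.fix_J ht9 hne (a := 2) (b := 9) (by norm_num) (by norm_num) (by norm_num) hr9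
    (by rw [S.Tk_comm ht1 hr, mul_inv_cancel_right])
  have h2 := S.X_inf_opp hr h1
  rw [h2, one_mul] at e
  exact Z8.inter' (k := 9) hx (by rw [e]; exact hy)

/-- elements of `T ⟨X_1, …, X_9⟩` centralising `X_5` -/
theorem T_of_HO {t y : G} (ht : t ∈ S.T) (hy : y ∈ J S.XZ 1 9) (h : t * y ∈ S.HO) : t ∈ S.LO ∧ t ∈ S.Tk 5 := by
  have key : ∀ s, t * S.o 2 s * t⁻¹ = S.o 2 s := by
    intro s
    have h1 := S.mem_centralizer_X5.1 (S.HO_le_cent h) s
    have h2 := S.comm_five hy (S.mX5 s)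
    have h3 : (t * (y * S.o 2 s * y⁻¹ * (S.o 2 s)⁻¹) * t⁻¹) * (t * S.o 2 s * t⁻¹) = S.o 2 s := by
      calc (t * (y * S.o 2 s * y⁻¹ * (S.o 2 s)⁻¹) * t⁻¹) * (t * S.o 2 s * t⁻¹)
          = (t * y * S.o 2 s) * (t * y)⁻¹ := by group
        _ = _ := by rw [h1]; group
    have h4 := S.T_conj_W46 ht h2
    have h5 : t * (y * S.o 2 s * y⁻¹ * (S.o 2 s)⁻¹) * t⁻¹ ∈ S.XZ 5 := by
      have : t * (y * S.o 2 s * y⁻¹ * (S.o 2 s)⁻¹) * t⁻¹ = S.o 2 s * (t * S.o 2 s * t⁻¹)⁻¹ := by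
        rw [eq_mul_inv_iff_mul_eq]; exact h3
      rw [this]
      exact mul_mem (S.mX5 s) (inv_mem (S.T_conj ht 5 (S.mX5 s)))
    rw [S.W46_inf h4 h5, one_mul] at h3
    exact h3
  refine ⟨S.T_five ht one_ne_zero (key 1), ht, Subgroup.mem_centralizer_iff.2 fun x hx => ?_⟩
  obtain ⟨s, rfl⟩ := S.X5 hx
  have h1 := key s
  rw [mul_inv_eq_iff_eq_mul] at h1
  exact h1.symm

theorem mem_NO {y : G} (hy : y ∈ J S.XZ 2 8) (h : y ∈ S.HO) : y ∈ S.NO := ⟨hy, S.HO_le_cent h⟩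

theorem rcHO [Finite F] [Finite G] (hF : ∃ c : Fˣ, c ≠ 1) (hR : S.R.p = 2) :
    RC S.HO (J S.XZ 1 8 ⊓ S.HO) S.NO (S.XZ 1) (S.XZ 5) (S.Tk 5) S.n1 where
  VM := inf_le_right
  RV := le_inf (inf_le_left.trans (J_mono (by norm_num) le_rfl)) (NO_HO S)
  YV := le_inf (X_le_J le_rfl (by norm_num)) (X1_HO S)
  DR := (X_le_J (by norm_num) (by norm_num)).trans S.J37_le
  TM := fun t ht => Subgroup.mem_sup_left (S.T_five ht.1 one_ne_zero (by
    rw [S.Tk_comm ht (S.mX5 1), mul_inv_cancel_right]))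
  nM := n1_mem_HO S
  split := fun v hv => by
    obtain ⟨y, hy, r, hr, e⟩ := S.zsys8.split_lr (a := 1) (b := 8) (by norm_num) (by norm_num) hv.1
    refine ⟨y, mem_NO S hy ?_, r, hr, e⟩
    have : y = v * r⁻¹ := by rw [e]; group
    rw [this]
    exact mul_mem hv.2 (inv_mem (X1_HO S hr))
  RY := fun y hy hy' => S.zsys8.inter 1 y hy (by norm_num; exact hy'.1)
  tv := fun t ht x hx => by
    have h1 : t ∈ S.HO := Subgroup.mem_sup_left (S.T_five ht.1 one_ne_zero (by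
      rw [S.Tk_comm ht (S.mX5 1), mul_inv_cancel_right]))
    exact ⟨S.T_conj_J ht.1 hx.1, S.HO.mul_mem (S.HO.mul_mem h1 hx.2) (S.HO.inv_mem h1)⟩
  ty := fun t ht x hx => S.T_conj ht.1 1 hx
  rn := fun m hm x hx => NO_norm S hm hx
  comm := fun s hs t ht => S.T_comm hs.1 ht.1
  p2 := (isPGroup_J S.zsys8 (two_X S hR) 8 1 8 (by norm_num) (by norm_num)).to_le inf_le_left
  odd := Odd.of_dvd_nat (AutNorm.odd_T S) (Subgroup.card_dvd_of_le (S.Tk_le 5))
  inv := fun t ht => by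
    obtain ⟨c, d, rfl⟩ := S.mem_T.1 ht.1
    have h1 := (AutTau.mem_Tk_odd S 2 c d).1 (by norm_num; exact ht)
    have h2 : chE σ 2 c d * chE σ 3 c d = 1 := h1
    rw [chE_two, chE_three] at h2
    have h3 : d / c = 1 := by
      apply S.unit_eq_one
      rw [map_div, ← h2, div_mul_div_comm, div_mul_div_comm, mul_comm d, mul_comm c]
    rw [div_eq_one] at h3
    rw [h3, S.n1_h, S.h_inv]
  form := fun g hg => by
    have Z8 := S.zsys8
    obtain ⟨b, hb, t, ht, e | ⟨b', hb', e⟩⟩ := HO_form S hg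
    · have e1 : g = t * (t⁻¹ * b * t⁻¹⁻¹) := by rw [e]; group
      have h1 := T_of_HO S ht (J_mono le_rfl (by norm_num) (S.T_conj_J (inv_mem ht) hb)) (by rw [← e1]; exact hg)
      have e2 : b = g * t⁻¹ := by rw [e]; group
      refine Or.inl ⟨b, ⟨hb, ?_⟩, t, h1.2, e⟩
      show b ∈ S.HO
      rw [e2]
      exact S.HO.mul_mem hg (S.HO.inv_mem (Subgroup.mem_sup_left h1.1))
    · obtain ⟨r, hr, y, hy, rfl⟩ := Z8.split_ll (a := 1) (b := 8) (by norm_num) (by norm_num) hb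
      obtain ⟨y', hy', r', hr', rfl⟩ := Z8.split_lr (a := 1) (b := 8) (by norm_num) (by norm_num) hb'
      have hq : S.n1⁻¹ * (t⁻¹ * y * t⁻¹⁻¹) * S.n1 * y' ∈ J S.XZ 2 8 :=
        mul_mem (S.n1_refl.mem_J_inv (S.T_conj_J (inv_mem ht) hy) (by norm_num) (by norm_num)) hy'
      have hr1 := X1_HO S hr
      have hr1' := X1_HO S hr'
      have e1 : r⁻¹ * g * r'⁻¹ = t * (S.n1 * (S.n1⁻¹ * (t⁻¹ * y * t⁻¹⁻¹) * S.n1 * y')) := by rw [e]; group
      have h0 : r⁻¹ * g * r'⁻¹ ∈ S.HO := mul_mem (mul_mem (inv_mem hr1) hg) (inv_mem hr1')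
      have h1 := T_of_HO S ht (mul_mem (S.LO_le_J S.n1_mem_LO) (J_mono (by norm_num) (by norm_num) hq))
        (by rw [← e1]; exact h0)
      have h2 : t ∈ S.HO := Subgroup.mem_sup_left h1.1
      have h3 : S.n1⁻¹ * (t⁻¹ * y * t⁻¹⁻¹) * S.n1 * y' ∈ S.HO := by
        have : S.n1⁻¹ * (t⁻¹ * y * t⁻¹⁻¹) * S.n1 * y' = S.n1⁻¹ * (t⁻¹ * (r⁻¹ * g * r'⁻¹)) := by rw [e1]; group
        rw [this]
        exact mul_mem (inv_mem (n1_mem_HO S)) (mul_mem (inv_mem h2) h0)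
      refine Or.inr ⟨r, ⟨X_le_J le_rfl (by norm_num) hr, hr1⟩, t, h1.2,
        S.n1⁻¹ * (t⁻¹ * y * t⁻¹⁻¹) * S.n1 * y' * r',
        ⟨mul_mem (J_mono (by norm_num) le_rfl hq) (X_le_J le_rfl (by norm_num) hr'), S.HO.mul_mem h3 hr1'⟩, ?_⟩
      rw [e]
      group
  oppY := fun y hy h => by
    have h1 : S.n1 * y * S.n1⁻¹ ∈ S.XZ 9 := S.n1_refl.mem' hy (by norm_num)
    exact conj_eq_one_iff.1 (inter_nine S hF h1 h.1)
  fpf := fun t ht ht1 y hy h => S.fpf (k := 5) (j := 1) (by norm_num) ht ht1 hy h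
  fix := fun t ht ht1 x hx h => S.fix_J ht ht1 (a := 2) (b := 8) (by norm_num) (by norm_num) (by norm_num) hx.1 h
  Yne := S.zsys8.ne_bot 1
  Tne := Tk_ne_bot S hF 5

theorem card_NO_lt [Finite F] [Finite G] : Nat.card S.NO * Nat.card (S.XZ 5) < Nat.card (J S.XZ 1 8) := by
  have h1 := Cfsg.Agent.CpAutTwF.Card.card_J_succ S (a := 1) (b := 8) (by norm_num) (by norm_num)
  have h2 := Cfsg.Agent.CpAutTwF.Card.card_odd S 0
  have h3 := Cfsg.Agent.CpAutTwF.Card.card_odd S 2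
  norm_num at h1 h2 h3
  rw [h1, h3, h2, mul_comm]
  have h4 : 0 < Nat.card F := Nat.card_pos
  refine Nat.mul_lt_mul_of_pos_left ?_ h4
  refine lt_of_le_of_ne (card_le_of_le inf_le_left) fun h => ?_
  have h5 : S.NO = J S.XZ 2 8 := Subgroup.eq_of_le_of_card_ge inf_le_left h.ge
  have h6 : S.e 1 1 0 ∈ S.NO := by rw [h5]; exact mem_J (S.mX2 1 0) le_rfl (by norm_num)
  have h7 := S.mem_centralizer_X5.1 h6.2 1
  have h8 : S.e 1 1 0 * S.o 2 1 = S.o 2 1 * S.e 1 1 0 * S.e 2 0 (1 * 1) := S.e_o1 1 1 0 1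
  rw [h8] at h7
  have h9 := mul_eq_left.1 h7
  have h10 := (S.e_eq_one h9).2
  rw [mul_one] at h10
  exact one_ne_zero h10

theorem card_Q_X4 [Finite F] [Finite G] : Nat.card S.Q * Nat.card (S.XZ 4) = Nat.card (J S.XZ 1 8) := by
  have h3 := Cfsg.Agent.CpAutTwF.Card.card_even S 2
  norm_num at h3
  rw [Cfsg.Agent.H762.PL.card_Q S, Cfsg.Agent.H762.PL.card_U S, h3]
  ring

/-- **Centralisers of the elements of odd order.** -/
theorem cent_aux [Finite F] [Finite G] (hF : ∃ c : Fˣ, c ≠ 1) (hR : S.R.p = 2) {y : G} (hy1 : y ≠ 1)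
    (ho : Odd (orderOf y)) {X : Subgroup G} (h2 : IsPGroup 2 X) (hc : ∀ x ∈ X, y * x = x * y) :
    (∃ g : G, (∀ x ∈ X, g * x * g⁻¹ ∈ S.Q) ∧ Nat.card X ^ 2 ≤ Nat.card (J S.XZ 1 8)) ∨
      Nat.card X ^ 2 < Nat.card (J S.XZ 1 8) := by
  have hfact : Fact (Nat.Prime 2) := ⟨Nat.prime_two⟩
  by_cases hX : X = ⊥
  · right
    rw [hX, card_bot, one_pow]
    have h1 : J S.XZ 1 8 ≠ ⊥ := by
      intro h
      apply S.zsys8.ne_bot 1
      rw [eq_bot_iff, ← h]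
      exact X_le_J le_rfl (by norm_num)
    exact (Subgroup.one_lt_card_iff_ne_bot _).2 h1
  -- an involution in the centre of `X`
  have hXne : Nontrivial X := (Subgroup.nontrivial_iff_ne_bot X).2 hX
  obtain ⟨z, hzX, hz2, hz1, hzc⟩ : ∃ z ∈ X, z * z = 1 ∧ z ≠ 1 ∧ ∀ x ∈ X, z * x = x * z := by
    have hct : Nontrivial (center X) := h2.center_nontrivial
    have hcp : IsPGroup 2 (center X) := h2.to_subgroup _
    obtain ⟨k, hk⟩ := hcp.exists_card_eq
    have h3 : 2 ∣ Nat.card (center X) := by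
      rw [hk]
      apply dvd_pow_self
      rintro rfl
      rw [pow_zero] at hk
      exact absurd (Finite.one_lt_card_iff_nontrivial.2 hct) (by rw [hk]; exact lt_irrefl 1)
    obtain ⟨⟨⟨z, hz⟩, hzc⟩, ho⟩ := exists_prime_orderOf_dvd_card' (G := center X) 2 h3
    rw [Subgroup.orderOf_mk, Subgroup.orderOf_mk] at ho
    refine ⟨z, hz, ?_, ?_, fun x hx => ?_⟩
    · rw [← pow_two, ← ho, pow_orderOf_eq_one]
    · rintro rfl
      rw [orderOf_one] at ho
      exact absurd ho (by norm_num)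
    · exact congrArg Subtype.val (mem_center_iff.1 hzc ⟨x, hx⟩).symm
  -- conjugation
  have main : ∀ (M V R Y D T : Subgroup G) (n : G), RC M V R Y D T n → ∀ g : G,
      (∀ w : G, w * (g * z * g⁻¹) = g * z * g⁻¹ * w → w ∈ M) →
      (∀ x ∈ X, g * x * g⁻¹ ∈ R) ∧ Nat.card X ^ 2 ≤ Nat.card R * Nat.card D := by
    intro M V R Y D T n C g hM
    have hcz : ∀ x, z * x = x * z → g * x * g⁻¹ ∈ M := by
      intro x hx
      apply hM
      calc g * x * g⁻¹ * (g * z * g⁻¹) = g * (x * z) * g⁻¹ := by group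
        _ = g * (z * x) * g⁻¹ := by rw [hx]
        _ = _ := by group
    have hyM := hcz y (hc z hzX).symm
    have hy1' : g * y * g⁻¹ ≠ 1 := fun h => hy1 (conj_eq_one_iff.1 h)
    have ho' : Odd (orderOf (g * y * g⁻¹)) := by
      have e : g * y * g⁻¹ = MulAut.conj g y := rfl
      rw [e, MulEquiv.orderOf_eq]
      exact ho
    let X' : Subgroup G := X.map (MulAut.conj g).toMonoidHom
    have c1 : Nat.card X' = Nat.card X := card_map_of_injective (MulAut.conj g).injective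
    have hX'M : X' ≤ M := by
      rintro _ ⟨x, hx, rfl⟩
      exact hcz x (hzc x hx)
    have hX'c : ∀ x ∈ X', (g * y * g⁻¹) * x = x * (g * y * g⁻¹) := by
      rintro _ ⟨x, hx, rfl⟩
      change g * y * g⁻¹ * (g * x * g⁻¹) = g * x * g⁻¹ * (g * y * g⁻¹)
      calc g * y * g⁻¹ * (g * x * g⁻¹) = g * (y * x) * g⁻¹ := by group
        _ = g * (x * y) * g⁻¹ := by rw [hc x hx]
        _ = _ := by group
    have h3 := C.le_R hyM hy1' ho' hX'M (h2.map _) hX'c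
    refine ⟨fun x hx => h3 ⟨x, hx, rfl⟩, ?_⟩
    rw [← c1]
    exact C.card_sq hyM hy1' ho' h3 hX'c
  rcases classes S hF hR hz2 hz1 with ⟨u, hu, k, hk⟩ | ⟨t, ht, k, hk⟩
  · left
    have e1 : S.rot ^ (2 : ℤ) * k * z * (S.rot ^ (2 : ℤ) * k)⁻¹ = S.e 2 0 u := by
      have := S.rotk_e 2 0 0 u
      rw [← hk] at this
      rw [show (2 : ZMod 8) = 0 + ((2 : ℤ) : ZMod 8) by norm_num, ← this]
      group
    obtain ⟨h3, h4⟩ := main _ _ _ _ _ _ _ (rcPL S hF hR) (S.rot ^ (2 : ℤ) * k) (fun w hw => by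
      rw [e1] at hw
      rw [← S.centralizer_z (z := S.e 2 0 u) ⟨u, rfl⟩ (fun h => hu (S.e_eq_one h).2),
        Subgroup.mem_centralizer_singleton_iff]
      exact hw)
    exact ⟨_, h3, h4.trans (card_Q_X4 S).le⟩
  · right
    have e1 : S.rot ^ (2 : ℤ) * k * z * (S.rot ^ (2 : ℤ) * k)⁻¹ = S.o 2 t := by
      have := S.rotk_o 2 0 t
      rw [← hk] at this
      rw [show (2 : ZMod 8) = 0 + ((2 : ℤ) : ZMod 8) by norm_num, ← this]
      group
    obtain ⟨h3, h4⟩ := main _ _ _ _ _ _ _ (rcHO S hF hR) (S.rot ^ (2 : ℤ) * k) (fun w hw => by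
      rw [e1] at hw
      rw [← S.centralizer_o ht, Subgroup.mem_centralizer_singleton_iff]
      exact hw)
    exact lt_of_le_of_lt h4 (card_NO_lt S)

section final

open Cfsg.Agent.H27.AH Cfsg.Agent.H330.ClassProd
open scoped Pointwise

/-- **(A) for `²F₄(q)`** -/
theorem notA_of_full [Finite F] [Finite G] (hF : ∃ c : Fˣ, c ≠ 1) (hR : S.R.p = 2) (hS : FixBN.HasSplit 2 G) :
    NotA 2 G := by
  have hfact : Fact (Nat.Prime 2) := ⟨Nat.prime_two⟩
  obtain ⟨P, hP⟩ := exists_sylow S hF hR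
  have hUc : Nat.card (J S.XZ 1 8) = 2 ^ (Nat.card G).factorization 2 := by
    rw [← hP]
    exact P.card_eq_multiplicity
  have key : ∀ x : G, x ≠ 1 → ¬ 2 ∣ orderOf x → ∃ A : Subgroup G, A ≤ centralizer ({x} : Set G) ∧
      Nat.card A = 2 ^ cv 2 x ∧ ((∃ g : G, (∀ y ∈ A, g * y * g⁻¹ ∈ S.Q) ∧
        cv 2 x + cv 2 x ≤ (Nat.card G).factorization 2) ∨ cv 2 x + cv 2 x < (Nat.card G).factorization 2) := by
    intro x hx hxp
    obtain ⟨X, hX⟩ := Sylow.exists_subgroup_card_pow_prime (G := centralizer ({x} : Set G)) 2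
      (n := cv 2 x) (Nat.ordProj_dvd _ _)
    obtain ⟨Y, hYd⟩ : ∃ Y : Subgroup G, Y = X.map (centralizer ({x} : Set G)).subtype := ⟨_, rfl⟩
    have hY : Nat.card Y = 2 ^ cv 2 x := by
      rw [hYd, card_map_of_injective (subtype_injective _), hX]
    have hYx : Y ≤ centralizer ({x} : Set G) := by
      rw [hYd]
      rintro _ ⟨y, -, rfl⟩
      exact y.2
    have ho : Odd (orderOf x) := by rwa [← Nat.not_even_iff_odd, even_iff_two_dvd]
    refine ⟨Y, hYx, hY, ?_⟩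
    rcases cent_aux S hF hR hx ho (IsPGroup.of_card hY) (fun y hy => (mem_centralizer_singleton_iff.1 (hYx hy)).symm)
      with ⟨g, h1, h2⟩ | h2
    · left
      refine ⟨g, h1, ?_⟩
      rw [hY, hUc, ← pow_mul] at h2
      have h3 := (Nat.pow_le_pow_iff_right Nat.one_lt_two).1 h2
      omega
    · right
      rw [hY, hUc, ← pow_mul] at h2
      have h3 := (Nat.pow_lt_pow_iff_right Nat.one_lt_two).1 h2
      omega
  intro a b c ha hb hc hab h1 h2 h3
  have h4 := hab.cv_add hS h1 h2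
  obtain ⟨A, hA, hAc, hA'⟩ := key a ha h1
  obtain ⟨B, hB, hBc, hB'⟩ := key b hb h2
  rcases hA' with ⟨g, hg, ha2⟩ | ha2
  · rcases hB' with ⟨k, hk, hb2⟩ | hb2
    · -- both in `Q`
      have h5 := (hab.conj g k).dvd_card hS (H := S.Q) (A := A.map (MulAut.conj g).toMonoidHom)
        (B := B.map (MulAut.conj k).toMonoidHom)
        (by rwa [orderOf_of_isConj (isConj_iff.2 ⟨g, rfl⟩)]) (by rwa [orderOf_of_isConj (isConj_iff.2 ⟨k, rfl⟩)])
        (by rintro _ ⟨y, hy, rfl⟩; exact hg y hy) (by rintro _ ⟨y, hy, rfl⟩; exact hk y hy)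
        (by
          rintro _ ⟨y, hy, rfl⟩
          have h5 := mem_centralizer_singleton_iff.1 (hA hy)
          change g * y * g⁻¹ ∈ _
          rw [mem_centralizer_singleton_iff]
          calc g * y * g⁻¹ * (g * a * g⁻¹) = g * (y * a) * g⁻¹ := by group
            _ = g * (a * y) * g⁻¹ := by rw [h5]
            _ = _ := by group)
        (by
          rintro _ ⟨y, hy, rfl⟩
          have h5 := mem_centralizer_singleton_iff.1 (hB hy)
          change k * y * k⁻¹ ∈ _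
          rw [mem_centralizer_singleton_iff]
          calc k * y * k⁻¹ * (k * b * k⁻¹) = k * (y * b) * k⁻¹ := by group
            _ = k * (b * y) * k⁻¹ := by rw [h5]
            _ = _ := by group)
        (by rw [card_map_of_injective (MulAut.conj g).injective, hAc, cv_conj])
        (by rw [card_map_of_injective (MulAut.conj k).injective, hBc, cv_conj])
      rw [← hUc, ← card_Q_X4 S] at h5
      have h6 : 0 < Nat.card S.Q := Nat.card_pos
      have h7 := Nat.le_of_dvd h6 h5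
      have h8 : 1 < Nat.card (S.XZ 4) := (Subgroup.one_lt_card_iff_ne_bot _).2 (S.zsys8.ne_bot 4)
      have h9 : Nat.card S.Q * 1 < Nat.card S.Q * Nat.card (S.XZ 4) := Nat.mul_lt_mul_of_pos_left h8 h6
      rw [mul_one] at h9
      exact absurd h7 (not_le_of_gt h9)
    · omega
  · rcases hB' with ⟨k, hk, hb2⟩ | hb2 <;> omega

open Cfsg.Lie in
theorem notA_twF4 {K : Type u} [Field K] [Fintype K] {m : ℕ} (hm : 1 ≤ m) (hK : Fintype.card K = 2 ^ (2 * m + 1))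
    (hS : FixBN.HasSplit 2 ↥(twistedF4 K (2 ^ m))) : NotA 2 ↥(twistedF4 K (2 ^ m)) := by
  obtain ⟨φ, hφ⟩ := Cfsg.Agent.ChevalleyStructure.TwF4.TwistedFix.exists_rln hK
  have := Cfsg.Agent.ChevalleyStructure.TwF4.Twisted.charP_two hK
  have hfin : Finite ↥(twistedF4 K (2 ^ m)) := inferInstance
  have hFc : Nat.card K = 2 ^ (2 * m + 1) := by rw [Nat.card_eq_fintype_card, hK]
  have h8 : 8 ≤ Nat.card K := by
    rw [hFc]
    calc 8 = 2 ^ 3 := by norm_num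
      _ ≤ _ := Nat.pow_le_pow_right (by norm_num) (by omega)
  have hF : ∃ c : Kˣ, c ≠ 1 := by
    have h1 : 1 < Nat.card Kˣ := by
      rw [Nat.card_units]
      omega
    have h2 : Nontrivial Kˣ := Finite.one_lt_card_iff_nontrivial.1 h1
    exact exists_ne 1
  exact notA_of_full (Cfsg.Agent.KFacts.TwF4.Inst.full hK hφ) hF rfl hS

/-- **(A) for the groups `²F₄(q)`, `q > 2`.** -/
theorem notA_iso2F4 {X : Type*} [Group X] (h : Lie.Iso2F4 X) : NotA 2 X := by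
  have hS := H979.LieSplit.hasSplit_of_iso2F4 h
  obtain ⟨K, i1, i2, m, hm, hK, ⟨e⟩⟩ := h
  exact NotA.of_equiv e (notA_twF4 hm hK (FixBN.Transport.hasSplit_congr e hS))

end final

end Cfsg.Agent.H743.AH.TwF
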