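import Cfsg.Agent.Mrg.ParSys.Fam.TwoFFour
import Cfsg.Agent.KFacts.TwF4.Full
import Cfsg.Agent.KFacts.TwF4.Inst
import Cfsg.Agent.KFacts.TwF4.CentZ
import Cfsg.Agent.S1113

/-!
# The split (B,N)-pair of `²F₄(q)` and its root groups (helper743)

`exists_bn` : the split (B,N)-pair `P` with `U = ⟨X_1, …, X_8⟩`, `S = {n₁, n₂}` and `T ≤ N`.
-/

set_option autoImplicit false
set_option linter.unusedSectionVars false
set_option linter.style.haveILetI false

namespace Cfsg.Agent.H743.AH.TwF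

open Cfsg.Lie
open Cfsg.Agent.ChevalleyStructure.TwF4.Tables
open Cfsg.Agent.ChevalleyStructure.TwF4.Rel
open Cfsg.Agent.ChevalleyStructure.TwF4.Groups Cfsg.Agent.ChevalleyStructure.TwF4.RankOne
open Cfsg.Agent.ChevalleyStructure.TwF4.Twisted Cfsg.Agent.ChevalleyStructure.TwF4.TwistedFix
open Cfsg.Agent.ChevalleyStructure.TwF4.BN
open Cfsg.Agent.ChevalleyStructure.TwF4.Torus (T T_conj_X chi_def)
open Cfsg.Agent.ChevalleyStructure.F4NTab (ca)
open Cfsg.Agent.ChevalleyStructure.TwF4.TwGen (tc tc_mul chi_tc_24 chi_tc_25 chi_tc_33 chi_tc_27 chi28 chi30 pow_all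
  n1_eq n2_eq n1_conj_T n2_conj_T)
open Cfsg.Agent.ChevalleyStructure.TwF4.TorusFix (mem_iff pow_unit T_rt rt)
open Cfsg.Agent.ChevalleyStructure.TwF4.Fix (Fix)
open Cfsg.Agent.ChevalleyStructure.TwF4.OrderCls (X_inj)
open Cfsg.Agent.Schreier.TwFFour
open Cfsg.Agent.Octagon.KSys Cfsg.Agent.Octagon.KPar Cfsg.Agent.Octagon.KRoot Cfsg.Agent.Octagon.Pkg
open Cfsg.Agent.ParSys.Fam.TwoFFour
open Cfsg.Agent.SplitTwo Cfsg.Agent.SplitTwo.ZS Cfsg.Agent.SplitTwo.RootSysZ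
open Cfsg.Agent.KFacts.TwF4 (Full)

variable {K : Type*} [Field K] [Fintype K] {m : ℕ}

theorem exists_bn (hK : Fintype.card K = 2 ^ (2 * m + 1)) :
    haveI : CharP K 2 := charP_two hK
    ∃ (φ : K →+* K) (S : Full φ ↥(twistedF4 K (2 ^ m))) (P : Cfsg.BNPair ↥(twistedF4 K (2 ^ m))), S.R.p = 2 ∧
      FixBN.Split P 2 (J S.XZ 1 8) ∧ P.S = {S.n1, S.n2} ∧ S.T ≤ P.N := by
  haveI : CharP K 2 := charP_two hK
  haveI : Fact (Nat.Prime 2) := ⟨Nat.prime_two⟩
  obtain ⟨φ, hφ⟩ := exists_rln hK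
  obtain ⟨P, hPB, hPN, -, hPS⟩ := Cfsg.Agent.ChevalleyStructure.TwF4.BNIrred.exists_bnPair_irreducible hφ
  have hB : P.B = B0 K (2 ^ m) := hPB
  have hdec := dec hK hφ
  have hUp := isPGroup_U0 hK
  have node_1 : Cfsg.Agent.Schreier.BNSch.Node P (U0 K (2 ^ m)) (m1 K (2 ^ m)) (V1 K (2 ^ m)) := node1 hφ hB
  have node_2 : Cfsg.Agent.Schreier.BNSch.Node P (U0 K (2 ^ m)) (m2 hφ) (V8 K (2 ^ m)) := node2 hφ hB
  have hdB : ∀ b ∈ P.B, ∃ s t : Kˣ, ∃ u ∈ U0 K (2 ^ m), b = u * tt hdec s t := by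
    intro b hb
    rw [hB] at hb
    obtain ⟨s, t, u, hu, hbu⟩ := hdec.1 b hb
    exact ⟨s, t, u, hu, Subtype.ext hbu⟩
  have httN : ∀ s t : Kˣ, tt hdec s t ∈ P.N := fun s t => by
    rw [hPN]
    exact Cfsg.Agent.ChevalleyStructure.TwF4.NStruct.T_mem_N _
  have hH : ∀ h ∈ P.B, h ∈ P.N → ∃ s t : Kˣ, h = tt hdec s t := by
    intro h hh hN
    rw [hPB, Subgroup.mem_subgroupOf] at hh
    rw [hPN, Subgroup.mem_subgroupOf] at hN
    have h1 := borel_inf_N ⟨hh, hN⟩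
    obtain ⟨s, t, hst⟩ := (mem_iff hK (h : GL chevF4.Idx K)).1 ⟨h1, h.2⟩
    exact ⟨s, t, Subtype.ext hst⟩
  have hUB : U0 K (2 ^ m) ≤ P.B := by rw [hB]; exact U0_le_B0
  have hnorm : ∀ b ∈ P.B, ∀ u ∈ U0 K (2 ^ m), b * u * b⁻¹ ∈ U0 K (2 ^ m) := fun b hb u hu => by
    rw [hB] at hb
    exact conj_U0 hb hu
  have hU : U0 K (2 ^ m) = J (Cfsg.Agent.KFacts.TwF4.Inst.full hK hφ).XZ 1 8 := by
    rw [Cfsg.Agent.KFacts.TwF4.Inst.U0_eq hφ]
    apply le_antisymm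
    · refine iSup₂_le fun k hk => ?_
      have h1 : (Cfsg.Agent.KFacts.TwF4.Inst.full hK hφ).XZ (k : ℤ) ≤
        J (Cfsg.Agent.KFacts.TwF4.Inst.full hK hφ).XZ 1 8 := X_le_J (by exact_mod_cast hk.1) (by exact_mod_cast hk.2)
      refine le_trans (le_of_eq ?_) h1
      show (Cfsg.Agent.KFacts.TwF4.Inst.full hK hφ).R.X ((k : ℕ) : ZMod (2 * 8)) =
        (Cfsg.Agent.KFacts.TwF4.Inst.full hK hφ).R.X (((k : ℕ) : ℤ) : ZMod (2 * 8))
      rw [Int.cast_natCast]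
    · refine J_le fun k h1 h2 => ?_
      obtain ⟨n, rfl⟩ := Int.eq_ofNat_of_zero_le (show 0 ≤ k by omega)
      have h3 := le_iSup₂ (f := fun (k : ℕ) (_ : k ∈ Set.Icc (1 : ℕ) 8) =>
        Cfsg.Agent.Octagon.KSys.XX K (2 ^ m) ((k : ℕ) : ZMod (2 * 8))) n ⟨by exact_mod_cast h1, by exact_mod_cast h2⟩
      refine le_trans (le_of_eq ?_) h3
      show (Cfsg.Agent.KFacts.TwF4.Inst.full hK hφ).R.X (((n : ℕ) : ℤ) : ZMod (2 * 8)) =
        (Cfsg.Agent.KFacts.TwF4.Inst.full hK hφ).R.X ((n : ℕ) : ZMod (2 * 8))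
      rw [Int.cast_natCast]
  refine ⟨φ, Cfsg.Agent.KFacts.TwF4.Inst.full hK hφ, P, rfl, ?_, hPS, ?_⟩
  · rw [← hU]
    exact
      { le := hUB
        norm := hnorm
        isP := hUp
        cover := fun b hb => by
          obtain ⟨s, t, u, hu, rfl⟩ := hdB b hb
          refine ⟨u, hu, ?_⟩
          rw [inv_mul_cancel_left]
          exact httN s t
        tor := ⟨2 ^ (2 * m + 1) - 1, by
          have h1 : 2 ∣ 2 ^ (2 * m + 1) := dvd_pow_self 2 (by omega)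
          have h2 : 0 < 2 ^ (2 * m + 1) := by positivity
          omega, fun h hh hN => by
          obtain ⟨s, t, rfl⟩ := hH h hh hN
          apply Subtype.ext
          show T (tc (2 ^ m) s t) ^ (2 ^ (2 * m + 1) - 1) = 1
          rw [← map_pow]
          have h2 : tc (2 ^ m) s t ^ (2 ^ (2 * m + 1) - 1) = 1 := by
            have h3 : ∀ x : Kˣ, x ^ (2 ^ (2 * m + 1) - 1) = 1 := by
              intro x
              have h4 := pow_card_eq_one' (x := x)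
              rwa [Nat.card_units, Nat.card_eq_fintype_card, hK] at h4
            funext l
            rw [Pi.pow_apply, h3]; rfl
          rw [h2, map_one]⟩
        node := by
          intro s hs
          rw [hPS] at hs
          rcases hs with rfl | hs
          · exact ⟨_, node_1⟩
          · rw [Set.mem_singleton_iff] at hs
            subst hs
            exact ⟨_, node_2⟩
        core := by
          rw [hPB, ← Subgroup.inf_subgroupOf_right]
          exact Cfsg.Agent.S1113.result hK }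
  · intro t ht
    rw [hPN]
    have h1 := Cfsg.Agent.KFacts.TwF4.Inst.torus_diag hφ
      (show t ∈ Cfsg.Agent.TitsThree.RankTwoZ.torus (Cfsg.Agent.Octagon.KSys.XX K (2 ^ m)) from ht)
    exact Subgroup.mem_subgroupOf.2
      ((le_sup_left : chevF4.diagonalSubgroup K ≤ chevF4.monomialSubgroup K) h1)

end Cfsg.Agent.H743.AH.TwF
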