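import Cfsg.Agent.H197.Cls.Tor
import Cfsg.Agent.FixBN.OfBN

/-!
# S2451 (helper743): the torus lemma for split (B,N)-pairs

`comm_of_mem_dis` : `B / U` abelian, all products of `a` with the conjugates of `b` are `p`-elements,
`n (B ∩ N) ∈ Dis a b`: then `n⁻¹ h n h⁻¹ ∈ U` for all `h ∈ B ∩ N`.
-/

set_option autoImplicit false
set_option linter.unusedSectionVars false

open scoped Pointwise

namespace Cfsg.Agent.H743.AH.BNTor

open Cfsg Cfsg.Agent.Tits.Core Cfsg.Agent.Tits.Core.Bldg Cfsg.Agent.Tits.OfBN Cfsg.Agent.FixBN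
  Cfsg.Agent.Tits.OppRes Cfsg.Agent.H197.Cls Cfsg.Agent.LieExceptional.BNPairCore

variable {K : Type*} [Group K] {P : Cfsg.BNPair K} {p : ℕ} {U : Subgroup K} [hpf : Fact p.Prime] [Finite K]
  [hN : ((P.B ⊓ P.N).subgroupOf P.N).Normal]
  {I : Type*} [Fintype I] [DecidableEq I] {M : CoxeterMatrix I} (e : I ≃ P.S) (cs : CoxeterSystem M (WP P)) [F : Cox cs]
  (hcs : ∀ i, cs.simple i = QuotientGroup.mk (⟨(e i : K), P.subset (e i).2⟩ : P.N))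

theorem comm_of_mem_dis (Sp : Split P p U) (hc : ∀ x ∈ P.B, ∀ y ∈ P.B, x * y * x⁻¹ * y⁻¹ ∈ U) {a b : K}
    (hab : Good p a b) {n : P.N} (hn : (QuotientGroup.mk n : WP P) ∈ Dis (bldg P e cs hcs) a b) {h : K}
    (hB : h ∈ P.B) (hhN : h ∈ P.N) : (n : K)⁻¹ * h * n * h⁻¹ ∈ U := by
  set S := FixBN.OfBN.sys e cs hcs Sp with hS
  have hth : (bldg P e cs hcs).Thick := thick P e cs hcs
  obtain ⟨g, c, hc1, hbc⟩ := exists_pair S hth hn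
  have hδ : (bldg P e cs hcs).δ (QuotientGroup.mk 1 : K ⧸ P.B) (QuotientGroup.mk (n : K)) = QuotientGroup.mk n := by
    rw [bldg_δ_mk, inv_one, one_mul]
    exact wt_of_mem P (self_mem_C _)
  obtain ⟨k, hk1, hk2⟩ := exists_smul_pair S hth (x := c) (y := a⁻¹ • c) (x' := (QuotientGroup.mk 1 : K ⧸ P.B))
    (y' := QuotientGroup.mk (n : K)) (by rw [hc1, hδ])
  -- conjugate
  obtain ⟨a', ha'⟩ : ∃ a', a' = k * a * k⁻¹ := ⟨_, rfl⟩
  obtain ⟨b', hb'⟩ : ∃ b', b' = k * (g * b * g⁻¹) * k⁻¹ := ⟨_, rfl⟩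
  have hab' : Good p a' b' := by
    rw [ha', hb']
    exact ((hab.conjR g).conjR k).conjL k
  have hki : k⁻¹ • (QuotientGroup.mk 1 : K ⧸ P.B) = c := by rw [inv_smul_eq_iff, hk1]
  have h1 : b' • (QuotientGroup.mk 1 : K ⧸ P.B) = QuotientGroup.mk (n : K) := by
    rw [hb', mul_smul, mul_smul, hki, hbc, hk2]
  have h2 : a'⁻¹ • (QuotientGroup.mk 1 : K ⧸ P.B) = QuotientGroup.mk (n : K) := by
    have e1 : a'⁻¹ = k * a⁻¹ * k⁻¹ := by rw [ha']; group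
    rw [e1, mul_smul, mul_smul, hki, hk2]
  have hhn : (n : K)⁻¹ * h * n ∈ P.B := by
    have h3 := P.conj_mem (n : K)⁻¹ (inv_mem n.2) h (Subgroup.mem_inf.2 ⟨hB, hhN⟩)
    rwa [inv_inv] at h3
  have h3 := tor S hab' (c := (QuotientGroup.mk 1 : K ⧸ P.B)) (by rw [h1, h2]) (h := h)
    (FixBN.OfBN.smul_mk_eq.2 (by rw [inv_one, one_mul, mul_one]; exact hB))
    (by rw [h1]; exact FixBN.OfBN.smul_mk_eq.2 hhn)
  rw [h1] at h3
  have h4 : (n : K)⁻¹ * (h * (b' * h⁻¹ * b'⁻¹)) * n ∈ U := (FixBN.OfBN.mem_UU Sp).1 h3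
  have h5 : (n : K)⁻¹ * b' ∈ P.B := by
    have h6 : (QuotientGroup.mk (b' * 1) : K ⧸ P.B) = QuotientGroup.mk (n : K) := h1
    rw [mul_one] at h6
    exact FixBN.OfBN.mk_eq.1 h6.symm
  have h6 := mul_mem h4 (hc _ h5 _ hB)
  have e7 : (n : K)⁻¹ * (h * (b' * h⁻¹ * b'⁻¹)) * n * ((n : K)⁻¹ * b' * h * ((n : K)⁻¹ * b')⁻¹ * h⁻¹) =
      (n : K)⁻¹ * h * n * h⁻¹ := by group
  rwa [e7] at h6

end Cfsg.Agent.H743.AH.BNTor
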