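import Cfsg.Agent.H31.OddNFP
import Cfsg.Agent.H330.ClassLacedRGD
import Cfsg.Agent.S0030

/-!
# Products of two `p`-regular classes: root group data, the translation into the group (helper743)

`R : RGD cs h p T n X`; `PJ K = LJ K * VJ K` the parabolic subgroups.

* `GMin a K` : `a ∈ PJ K` and no conjugate of `a` lies in a parabolic subgroup of smaller rank;
* `minRes_iff` : this is `MinRes`;
* `trans_of_not_dp` : if `DP a i` fails then `VJ K ⊓ C(a)` maps onto `X (sr i)`;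
* `dt_of_le` : `VJ K ⊓ C(a) ≤ Sup X (PosNe i)` gives `DT a i`;
* `exists_conj_levi` : `p`-regular elements of `PJ K` are conjugate to elements of `LJ K`.
-/

set_option autoImplicit false
set_option linter.unusedSectionVars false

open scoped Pointwise

namespace Cfsg.Agent.H743.AH.RgdPos

open CoxeterSystem Cfsg.Agent.ChevalleyStructure.CoxeterGeom Cfsg.Agent.Tits.Roots Cfsg.Agent.Tits.Core
  Cfsg.Agent.Tits.RootComb Cfsg.Agent.Nodes.Comb Cfsg.Agent.Nodes.Reps Cfsg.Agent.Nodes.BNOf Cfsg.Agent.Nodes.BNOf.RGD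
  Cfsg.Agent.FixBN Cfsg.Agent.Tits.OfBN Cfsg.Agent.Tits.OppRes Cfsg.Agent.LieExceptional.BNPairCore
  Cfsg.Agent.OddHalf.Table.AutBldg Cfsg.Agent.OddHalf.Table.AutRGD Cfsg.Agent.OddHalf.Table.AutNorm
  Cfsg.Agent.Tits Cfsg.Agent.Nodes.RGDLib Cfsg.Agent.UGT.U2.FOne Cfsg.Agent.H330.ClassRes Cfsg.Agent.H330.ClassProd
  Cfsg.Agent.Nodes.Bruhat Cfsg.Agent.Nodes.LeviDec Cfsg.Agent.Nodes.StabComb
open Cfsg.Agent.Tits.Core.Bldg

/-! ### Conjugates of complements -/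

section Compl

variable {G : Type*} [Group G] [Finite G] {p : ℕ} [Fact p.Prime]

/-- A `p`-regular element of `V L`, `V` a normal `p`-subgroup, is conjugate to an element of `L`. -/
theorem exists_conj_of_mul {V L : Subgroup G} (hV : IsPGroup p V) (hL : L ≤ Subgroup.normalizer (V : Set G))
    (hd : V ⊓ L = ⊥) {v l : G} (hv : v ∈ V) (hl : l ∈ L) (ho : ¬ p ∣ orderOf (v * l)) :
    ∃ u ∈ V, u * (v * l) * u⁻¹ ∈ L := by
  have hp : p.Prime := Fact.out
  have hpow : ∀ k : ℕ, ∃ w ∈ V, (v * l) ^ k = w * l ^ k := by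
    intro k
    induction k with
    | zero => exact ⟨1, one_mem _, by simp⟩
    | succ k ih =>
      obtain ⟨w, hw, e⟩ := ih
      refine ⟨w * (l ^ k * v * (l ^ k)⁻¹), mul_mem hw
        ((Subgroup.mem_normalizer_iff.1 (hL (pow_mem hl k)) v).1 hv), ?_⟩
      rw [pow_succ, e, pow_succ]; group
  have hcop : ∀ A : Subgroup G, ¬ p ∣ Nat.card A → (Nat.card A).Coprime (Nat.card V) := by
    intro A hA
    obtain ⟨k, hk⟩ := IsPGroup.iff_card.1 hV
    rw [hk]
    exact Nat.Coprime.pow_right _ ((Nat.Prime.coprime_iff_not_dvd hp).2 hA).symm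
  have hinf : ∀ g ∈ V, g ∈ L → g = 1 := by
    intro g h1 h2
    have : g ∈ V ⊓ L := ⟨h1, h2⟩
    rwa [hd, Subgroup.mem_bot] at this
  have h2 : orderOf l ∣ orderOf (v * l) := by
    obtain ⟨w, hw, e⟩ := hpow (orderOf (v * l))
    rw [pow_orderOf_eq_one] at e
    refine orderOf_dvd_of_pow_eq_one (hinf _ ?_ (pow_mem hl _))
    have h4 : l ^ orderOf (v * l) = w⁻¹ := eq_inv_of_mul_eq_one_right e.symm
    rw [h4]
    exact inv_mem hw
  have hol : ¬ p ∣ orderOf l := fun h => ho (h.trans h2)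
  have h1 : orderOf (v * l) ∣ orderOf l := by
    obtain ⟨w, hw, e⟩ := hpow (orderOf l)
    rw [pow_orderOf_eq_one, mul_one] at e
    have h2 : orderOf ((v * l) ^ orderOf l) ∣ Nat.card V := Subgroup.orderOf_dvd_natCard V (by rw [e]; exact hw)
    have h3 : orderOf ((v * l) ^ orderOf l) ∣ Nat.card (Subgroup.zpowers (v * l)) := by
      rw [Nat.card_zpowers]; exact orderOf_pow_dvd _
    have h4 := Nat.eq_one_of_dvd_coprimes (hcop _ (by rw [Nat.card_zpowers]; exact ho)) h3 h2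
    exact orderOf_dvd_of_pow_eq_one (orderOf_eq_one_iff.1 h4)
  have h3 : v * l ∈ V ⊔ Subgroup.zpowers l :=
    mul_mem (Subgroup.mem_sup_left hv) (Subgroup.mem_sup_right (Subgroup.mem_zpowers l))
  have hsol : Group.IsSolvable (Subgroup.zpowers l) := inferInstance
  obtain ⟨u, hu, h4⟩ := S0030.exists_conj_eq (Subgroup.zpowers l) V (Subgroup.zpowers (v * l))
    ((Subgroup.zpowers_le.2 hl).trans hL) (hcop _ (by rw [Nat.card_zpowers]; exact hol)) (Or.inl hsol)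
    (Subgroup.zpowers_le.2 h3) (by rw [Nat.card_zpowers, Nat.card_zpowers]; exact Nat.dvd_antisymm h1 h2)
  refine ⟨u⁻¹, inv_mem hu, ?_⟩
  have h5 : v * l ∈ MulAut.conj u • Subgroup.zpowers l := by rw [h4]; exact Subgroup.mem_zpowers _
  rw [Subgroup.mem_pointwise_smul_iff_inv_smul_mem, ← map_inv, MulAut.smul_def, MulAut.conj_apply, inv_inv] at h5
  rw [inv_inv]
  exact (Subgroup.zpowers_le.2 hl) h5

end Compl

variable {I W Y : Type*} [Fintype I] [DecidableEq I] [Group W] [Group Y] {M : CoxeterMatrix I}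
  {cs : CoxeterSystem M W} {A : I → I → ℤ} {h : IsCartan M A} {p : ℕ} {T : Subgroup Y} {n : I → Y}
  {X : (I → ℤ) → Subgroup Y}

/-! ### Normalisers -/

/-- The parabolic subgroup `PJ J` normalises `Sup X S` if `S` is an ideal of positive roots invariant under `WJ J`. -/
theorem PJ_le_normalizer_Sup [Finite W] (R : RGD cs h p T n X) {J : Set I} {S : Set (I → ℤ)} (hS : S ⊆ Pos cs h)
    (habs : ∀ x ∈ Pos cs h, ∀ y ∈ S, ∀ z, Btwn cs h x y z → z ∈ S)
    (hJ : ∀ w ∈ WJ cs J, ∀ y ∈ S, rep cs h w y ∈ S) :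
    PJ cs h T X J ≤ Subgroup.normalizer (Sup X S : Set Y) := by
  have hB : B cs h T X ≤ Subgroup.normalizer (Sup X S : Set Y) := by
    refine sup_le (R.T_le_normalizer fun _ hx => (hS hx).1) (Sup_le fun x hx => ?_)
    refine R.le_normalizer hx.1 fun y hy => ⟨(hS hy).1, Or.inr ⟨?_, fun z hz => habs x hx y hy z hz⟩⟩
    rintro rfl
    have h1 := (hS hy).2
    have h2 := hx.2
    have h3 : y = 0 := le_antisymm (neg_nonneg.1 h2) h1
    exact (hS hy).1.ne_zero h3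
  have hk : ∀ w ∈ WJ cs J, ∀ k, Rp cs R.nsys w k → k ∈ Subgroup.normalizer (Sup X S : Set Y) := by
    have h1 : ∀ w ∈ WJ cs J, ∀ k, Rp cs R.nsys w k → cj k (Sup X S) ≤ Sup X S := fun w hw k hk =>
      cj_Sup_le R hk (fun x hx => (hS hx).1) fun x hx => hJ w hw x hx
    intro w hw k hk
    rw [mem_normalizer_iff_cj]
    apply le_antisymm (h1 w hw k hk)
    have h2 := cj_mono k (h1 _ (inv_mem hw) _ hk.inv)
    rwa [cj_cj_inv] at h2
  intro g hg
  obtain ⟨w, hw, b₁, hb₁, k, hkw, b₂, hb₂, rfl⟩ := (mem_PJ_iff_cell R).1 hg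
  exact mul_mem (mul_mem (hB hb₁) (hk w hw k hkw)) (hB hb₂)

theorem conj_mem_Sup_of_PJ [Finite W] (R : RGD cs h p T n X) {J : Set I} {S : Set (I → ℤ)} (hS : S ⊆ Pos cs h)
    (habs : ∀ x ∈ Pos cs h, ∀ y ∈ S, ∀ z, Btwn cs h x y z → z ∈ S)
    (hJ : ∀ w ∈ WJ cs J, ∀ y ∈ S, rep cs h w y ∈ S) {g v : Y} (hg : g ∈ PJ cs h T X J) (hv : v ∈ Sup X S) :
    g * v * g⁻¹ ∈ Sup X S :=
  (Subgroup.mem_normalizer_iff.1 (PJ_le_normalizer_Sup R hS habs hJ hg) v).1 hv

/-- Invariance under `WJ` from the invariance under the simple reflections. -/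
theorem rep_mem_of_simple {J : Set I} {S : Set (I → ℤ)}
    (hJ : ∀ i ∈ J, ∀ y ∈ S, rep cs h (cs.simple i) y ∈ S) : ∀ w ∈ WJ cs J, ∀ y ∈ S, rep cs h w y ∈ S := by
  intro w hw
  have h1 : WJ cs J ≤ ({ carrier := {w | (∀ y ∈ S, rep cs h w y ∈ S) ∧ ∀ y ∈ S, rep cs h w⁻¹ y ∈ S}
                         mul_mem' := fun {a b} ha hb => ⟨fun y hy => by
                            rw [rep_mul_apply]; exact ha.1 _ (hb.1 y hy), fun y hy => by
                            rw [mul_inv_rev, rep_mul_apply]; exact hb.2 _ (ha.2 y hy)⟩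
                         one_mem' := ⟨fun y hy => by rw [map_one]; exact hy, fun y hy => by
                            rw [inv_one, map_one]; exact hy⟩
                         inv_mem' := fun {a} ha => ⟨ha.2, fun y hy => by rw [inv_inv]; exact ha.1 y hy⟩ } :
                        Subgroup W) := by
    unfold WJ
    rw [Subgroup.closure_le]
    rintro _ ⟨i, hi, rfl⟩
    exact ⟨hJ i hi, fun y hy => by rw [cs.inv_simple]; exact hJ i hi y hy⟩
  exact (h1 hw).1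

/-- Conjugates of Levi subgroups. -/
theorem conj_mem_LJ [Finite W] (R : RGD cs h p T n X) {J J' : Set I} {w : W} {k : Y} (hk : Rp cs R.nsys w k)
    (hJ : ∀ x ∈ RootsJ cs h J, rep cs h w x ∈ RootsJ cs h J') {g : Y} (hg : g ∈ LJ cs h T X J) :
    k * g * k⁻¹ ∈ LJ cs h T X J' := by
  have h1 : cj k (LJ cs h T X J) ≤ LJ cs h T X J' := by
    have h2 : LJ cs h T X J ≤ cj k⁻¹ (LJ cs h T X J') := by
      refine sup_le ?_ (Sup_le fun x hx => ?_)
      · intro t ht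
        rw [mem_cj, inv_inv]
        exact T_le_LJ ((Subgroup.mem_normalizer_iff.1 hk.mem_normalizer t).1 ht)
      · intro t ht
        rw [mem_cj, inv_inv]
        exact X_le_LJ (hJ x hx) (R.conj_mem hk hx.1 ht)
    have h3 := cj_mono k h2
    rwa [cj_cj_inv] at h3
  exact h1 (conj_mem_cj.2 hg)

/-! ### The translation -/

/-- `a ∈ PJ K`, and no conjugate of `a` lies in a parabolic subgroup of smaller rank. -/
structure GMin (cs : CoxeterSystem M W) (h : IsCartan M A) (T : Subgroup Y) (X : (I → ℤ) → Subgroup Y) (a : Y)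
    (K : Finset I) : Prop where
  mem : a ∈ PJ cs h T X (K : Set I)
  min : ∀ (g : Y) (L : Finset I), g⁻¹ * a * g ∈ PJ cs h T X (L : Set I) → K.card ≤ L.card

theorem GMin.conj {a : Y} {K K' : Finset I} (hm : GMin cs h T X a K) {g : Y} (hg : g * a * g⁻¹ ∈ PJ cs h T X (K' : Set I))
    (hc : K'.card = K.card) : GMin cs h T X (g * a * g⁻¹) K' where
  mem := hg
  min x L hL := by
    rw [hc]
    refine hm.min (g⁻¹ * x) L ?_
    have e : (g⁻¹ * x)⁻¹ * a * (g⁻¹ * x) = x⁻¹ * (g * a * g⁻¹) * x := by group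
    rw [e]
    exact hL

section Tr

variable [Finite W] [Finite Y] [hp : Fact p.Prime] (R : RGD cs h p T n X) (hgen : B cs h T X ⊔ NN cs R.nsys = ⊤)
  [hN : (((R.bnPair hgen).B ⊓ (R.bnPair hgen).N).subgroupOf (R.bnPair hgen).N).Normal]
  (cs' : CoxeterSystem M (WP (R.bnPair hgen)))
  (hcs : ∀ i, cs'.simple i = QuotientGroup.mk
    (⟨(eS R hgen i : Y), (R.bnPair hgen).subset (eS R hgen i).2⟩ : (R.bnPair hgen).N))
  (hcore : (B cs h T X).normalCore = ⊥)

include hcs in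
theorem δ_mem_WJ {J : Set I} {a b : Y} :
    (Bl R hgen cs' hcs).δ (ch R hgen a) (ch R hgen b) ∈ WJ cs' J ↔ a⁻¹ * b ∈ PJ cs h T X J := by
  rw [bldg_δ_mk]
  have hGG : GG cs h T X = ⊤ := by
    rw [eq_top_iff, ← hgen]
    exact sup_le B_le_GG (NN_le_GG R)
  obtain ⟨w, hw⟩ := (mem_GG R).1 (show a⁻¹ * b ∈ GG cs h T X by rw [hGG]; trivial)
  rw [cell_mem_PJ_iff R hw]
  obtain ⟨b₁, hb₁, k, hk, b₂, hb₂, e⟩ := hw
  have h1 : wt (R.bnPair hgen) (a⁻¹ * b) = fw cs cs' w := by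
    rw [e, wt_mul_right _ _ hb₂, wt_mul_left _ _ hb₁]
    exact wt_rp R hgen cs' hcs hk
  rw [h1]
  constructor
  · intro h2
    have h3 := fw_mem_WJ cs' cs h2
    rwa [fw_fw] at h3
  · exact fw_mem_WJ cs cs'

/-- `MinRes` for the chamber `g B`. -/
theorem minRes_iff [Fintype (Y ⧸ (R.bnPair hgen).B)] {a g : Y} {K : Finset I} :
    MinRes (Bl R hgen cs' hcs) a K (ch R hgen g) ↔ GMin cs h T X (g⁻¹ * a * g) K := by
  have e1 : ∀ (x : Y) (L : Set I), (Bl R hgen cs' hcs).δ (ch R hgen x) (a • ch R hgen x) ∈ WJ cs' L ↔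
      x⁻¹ * a * x ∈ PJ cs h T X L := by
    intro x L
    rw [show a • ch R hgen x = ch R hgen (a * x) from rfl, δ_mem_WJ R hgen cs' hcs, ← mul_assoc]
  constructor
  · rintro ⟨h1, h2⟩
    refine ⟨(e1 g _).1 h1, fun x L hL => h2 (ch R hgen (g * x)) L ((e1 _ _).2 ?_)⟩
    have e : (g * x)⁻¹ * a * (g * x) = x⁻¹ * (g⁻¹ * a * g) * x := by group
    rw [e]
    exact hL
  · rintro ⟨h1, h2⟩
    refine ⟨(e1 g _).2 h1, fun x L hL => ?_⟩
    induction x using QuotientGroup.induction_on with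
    | _ x =>
    refine h2 (g⁻¹ * x) L ?_
    have e : (g⁻¹ * x)⁻¹ * (g⁻¹ * a * g) * (g⁻¹ * x) = x⁻¹ * a * x := by group
    rw [e]
    exact (e1 x _).1 hL

include R hgen in
omit hN in
theorem exists_gMin (a : Y) : ∃ (K : Finset I) (g : Y), GMin cs h T X (g⁻¹ * a * g) K := by
  classical
  have hex : ∃ m : ℕ, ∃ (x : Y) (K : Finset I), x⁻¹ * a * x ∈ PJ cs h T X (K : Set I) ∧ K.card = m := by
    refine ⟨_, 1, Finset.univ, ?_, rfl⟩
    have hGG : GG cs h T X = ⊤ := by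
      rw [eq_top_iff, ← hgen]
      exact sup_le B_le_GG (NN_le_GG R)
    have h1 : PJ cs h T X Set.univ = ⊤ := by
      rw [eq_top_iff, ← hGG, ← LJ_univ]
      exact LJ_le_PJ
    rw [Finset.coe_univ, h1]
    trivial
  obtain ⟨x, K, hx, hK⟩ := Nat.find_spec hex
  refine ⟨K, x, hx, fun y L hy => ?_⟩
  rw [hK]
  refine Nat.find_min' hex ⟨x * y, L, ?_, rfl⟩
  have e : (x * y)⁻¹ * a * (x * y) = y⁻¹ * (x⁻¹ * a * x) * y := by group
  rw [e]
  exact hy

variable [Fintype (Y ⧸ (R.bnPair hgen).B)]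

theorem isSyl_base {a : Y} {K : Finset I} (hm : GMin cs h T X a K) (hpa : ¬ p ∣ orderOf a) :
    IsSyl p a ((Sy R hgen cs' hcs hcore).UR ((Bl R hgen cs' hcs).Res (K : Set I) (ch R hgen 1)) ⊓
      Subgroup.centralizer ({a} : Set Y)) := by
  have hW : Finite (WP (R.bnPair hgen)) := inferInstance
  have hC' : Cox cs' := inferInstance
  have h1 : MinRes (Bl R hgen cs' hcs) a K (ch R hgen 1) := by
    rw [minRes_iff]
    simpa using hm
  exact h1.isSyl (Sy R hgen cs' hcs hcore) (thick (R.bnPair hgen) (eS R hgen) cs' hcs)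
    (fun x y => MulAction.exists_smul_eq Y x y) hpa

theorem UR_inf_le {a : Y} {K : Finset I} {u : Y}
    (hu : u ∈ (Sy R hgen cs' hcs hcore).UR ((Bl R hgen cs' hcs).Res (K : Set I) (ch R hgen 1)) ⊓
      Subgroup.centralizer ({a} : Set Y)) :
    u ∈ VJ cs h X (K : Set I) ∧ u * a = a * u ∧ u ∈ (Sy R hgen cs' hcs hcore).U (ch R hgen 1) :=
  ⟨H31.OddNFP.UR_le_VJ R hgen cs' hcs hcore hu.1, Subgroup.mem_centralizer_singleton_iff.1 hu.2,
    hu.1 _ (Bldg.self_mem_Res _ _ _)⟩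

/-- `DT` at the base chamber. -/
theorem dt_of_le {a : Y} {K : Finset I} (hm : GMin cs h T X a K) (hpa : ¬ p ∣ orderOf a) {i : I}
    (hle : ∀ u ∈ VJ cs h X (K : Set I), u * a = a * u → u ∈ Sup X (PosNe cs h i)) :
    DT (Sy R hgen cs' hcs hcore) a i := by
  refine ⟨ch R hgen 1, _, isSyl_base R hgen cs' hcs hcore hm hpa, fun u hu =>
    (UR_inf_le R hgen cs' hcs hcore hu).2.2, fun u hu y hy => ?_⟩
  obtain ⟨h1, h2, -⟩ := UR_inf_le R hgen cs' hcs hcore hu
  have h3 := hle u h1 h2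
  rw [mem_pan_iff hcs] at hy
  rcases hy with rfl | ⟨x, hx, rfl⟩
  · rw [FixBN.OfBN.smul_mk_eq, inv_one, one_mul, mul_one]
    exact U_le_B (Sup_mono (S := PosNe cs h i) (S' := Pos cs h) (fun z hz => ⟨hz.1, hz.2.1⟩) h3)
  · rw [FixBN.OfBN.smul_mk_eq, one_mul]
    have h4 : x⁻¹ * u * x ∈ Sup X (PosNe cs h i) := by
      have := (Subgroup.mem_normalizer_iff.1 (R.X_le_normalizer_V i (inv_mem hx)) u).1 h3
      rwa [inv_inv] at this
    have h5 : (n i)⁻¹ * (x⁻¹ * u * x) * n i ∈ Sup X (PosNe cs h i) := by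
      rw [← R.cj_n_V i] at h4
      exact mem_cj.1 h4
    have h6 : (x * n i)⁻¹ * u * (x * n i) = (n i)⁻¹ * (x⁻¹ * u * x) * n i := by group
    rw [h6]
    exact U_le_B (Sup_mono (S := PosNe cs h i) (S' := Pos cs h) (fun z hz => ⟨hz.1, hz.2.1⟩) h5)

/-- If `DP a i` fails then `VJ K ⊓ C(a)` maps onto `X (sr i)`. -/
theorem trans_of_not_dp {a : Y} {K : Finset I} (hm : GMin cs h T X a K) (hpa : ¬ p ∣ orderOf a) {i : I}
    (hD : ¬ DP (Sy R hgen cs' hcs hcore) a i) {x : Y} (hx : x ∈ X (sr i)) :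
    ∃ u ∈ VJ cs h X (K : Set I), u * a = a * u ∧ ∃ v ∈ Sup X (PosNe cs h i), u = x * v := by
  by_contra hcon
  apply hD
  have hne : ∀ x ∈ X (sr i), ch R hgen (x * n i) ≠ ch R hgen 1 := by
    intro x hx h0
    rw [eq_comm, FixBN.OfBN.mk_eq, inv_one, one_mul] at h0
    have h1 : n i ∈ B cs h T X := by
      have : n i = x⁻¹ * (x * n i) := by group
      rw [this]
      exact mul_mem (inv_mem (X_le_B (isRoot_sr cs h i) (sr_nonneg i) hx)) h0
    have h3 := R.eq_one_of_mem_B (rp_simple cs R.nsys i) h1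
    have h4 := rep_simple_sr cs h i
    rw [h3, map_one, Module.End.one_apply] at h4
    have h5 := congrFun h4 i
    rw [Pi.neg_apply, sr_self] at h5
    exact absurd h5 (by decide)
  refine ⟨ch R hgen 1, _, isSyl_base R hgen cs' hcs hcore hm hpa, fun u hu =>
    (UR_inf_le R hgen cs' hcs hcore hu).2.2, ch R hgen (1 * n i), ?_, ch R hgen (x * n i), ?_,
    hne 1 (one_mem _), hne x hx, fun u hu he => hcon ?_⟩
  · rw [mem_pan_iff hcs]
    exact Or.inr ⟨1, one_mem _, by rw [one_mul, one_mul]⟩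
  · rw [mem_pan_iff hcs]
    exact Or.inr ⟨x, hx, by rw [one_mul]⟩
  · obtain ⟨h1, h2, -⟩ := UR_inf_le R hgen cs' hcs hcore hu
    refine ⟨u, h1, h2, x⁻¹ * u, ?_, by group⟩
    refine (NodeRGD.node R hgen i).stab _ (mul_mem (inv_mem (le_Sup (S := Pos cs h) ⟨isRoot_sr cs h i, sr_nonneg i⟩ hx))
      (VJ_le_U _ h1)) ?_
    rw [eq_comm, FixBN.OfBN.smul_mk, FixBN.OfBN.mk_eq, one_mul] at he
    change (n i)⁻¹ * (x⁻¹ * u) * n i ∈ (R.bnPair hgen).B
    have h6 : (n i)⁻¹ * (x⁻¹ * u) * n i = (x * n i)⁻¹ * (u * n i) := by group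
    rw [h6]
    exact he

omit [Fintype (Y ⧸ (R.bnPair hgen).B)] in
theorem DP.conj {a : Y} {i : I} (hD : DP (Sy R hgen cs' hcs hcore) a i) (g : Y) :
    DP (Sy R hgen cs' hcs hcore) (g * a * g⁻¹) i := by
  obtain ⟨x, A', hA, hAx, y, hy, z, hz, hyx, hzx, h1⟩ := hD
  refine ⟨g • x, _, hA.conj g, map_conj_le_U hAx g, g • y, smul_mem_Pan (S := Sy R hgen cs' hcs hcore) g hy, g • z,
    smul_mem_Pan (S := Sy R hgen cs' hcs hcore) g hz, ?_, ?_, ?_⟩
  · exact fun h0 => hyx (smul_left_cancel g h0)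
  · exact fun h0 => hzx (smul_left_cancel g h0)
  · rintro _ ⟨u, hu, rfl⟩ h0
    apply h1 u hu
    change (g * u * g⁻¹) • g • y = g • z at h0
    rw [mul_smul, mul_smul, inv_smul_smul] at h0
    exact smul_left_cancel g h0

end Tr

/-- `p`-regular elements of `PJ K` are conjugate to elements of `LJ K`. -/
theorem exists_conj_levi [Finite W] [Finite Y] [Fact p.Prime] (R : RGD cs h p T n X) {K : Set I} {a : Y}
    (ha : a ∈ PJ cs h T X K) (hpa : ¬ p ∣ orderOf a) : ∃ v ∈ VJ cs h X K, v * a * v⁻¹ ∈ LJ cs h T X K := by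
  obtain ⟨l, hl, v, hv, rfl⟩ := (mem_PJ R).1 ha
  have hN := LJ_le_normalizer_VJ R K
  have hv' : l * v * l⁻¹ ∈ VJ cs h X K := (Subgroup.mem_normalizer_iff.1 (hN hl) v).1 hv
  have e : l * v = (l * v * l⁻¹) * l := by group
  rw [e] at hpa ⊢
  have hinf : VJ cs h X K ⊓ LJ cs h T X K = ⊥ := by rw [inf_comm]; exact LJ_inf_VJ R K
  exact exists_conj_of_mul (R.isPGroup_Upos.to_le (VJ_le_U K)) hN hinf hv' hl hpa

end Cfsg.Agent.H743.AH.RgdPos
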