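import Cfsg.Agent.H743.AH.SixA

/-!
# Products of two `p`-regular classes, `²E₆(q)`: minimal parabolic of type `{0, 1}` (helper743)

`V = Sup X L0 = VJ {0, 1}`, `V_l = Sup X L1`, `V_p = Sup X L2`, `Z = Sup X L3`.

* `p1`, `p2` : the intersections of two conjugates of `V_p`, `V_l`;
* `p3` : the conjugates of `V_l` cover `V`;
* `of_plane` : `V ⊓ C(a) ≤ Z` if `a ∈ PJ {0, 1}` is in no conjugate of `PJ {0}`, `PJ {1}`.
-/

set_option autoImplicit false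
set_option linter.unusedSectionVars false

namespace Cfsg.Agent.H743.AH.SixB

open CoxeterSystem Cfsg.Agent.ChevalleyStructure.CoxeterGeom Cfsg.Agent.Tits.Roots Cfsg.Agent.Tits.Core
  Cfsg.Agent.Tits.RootComb Cfsg.Agent.Tits.Exchange Cfsg.Agent.Nodes.Reps Cfsg.Agent.Nodes.BNOf
  Cfsg.Agent.Nodes.StabComb Cfsg.Agent.Nodes.Bruhat Cfsg.Agent.Nodes.OppDec Cfsg.Agent.Nodes.LeviDec
  Cfsg.Agent.Nodes.Coroot Cfsg.Agent.KFacts.RgdSL Cfsg.Agent.KFacts.RgdTI Cfsg.Agent.KFacts.RgdOdd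
  Cfsg.Agent.KFacts.RgdEx
  Cfsg.Agent.Nodes.RGDTwE6 Cfsg.Agent.KFacts.TwESix.Comb Cfsg.Agent.KFacts.TwESix.CombRho
  Cfsg.Agent.KFacts.TwESix.Btw Cfsg.Agent.H743.AH.SixFacts Cfsg.Agent.H743.AH.RgdPos Cfsg.Agent.H743.AH.SixA
open scoped commutatorElement

variable {W Y : Type*} [Group W] [Group Y] {cs : CoxeterSystem CoxeterMatrix.F₄ W} {p : ℕ} {T : Subgroup Y}
  {n : Fin 4 → Y} {X : (Fin 4 → ℤ) → Subgroup Y}

theorem NotJ_01 : NotJ cs isCartan ({0, 1} : Set (Fin 4)) = st L0 := by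
  ext x
  constructor
  · rintro ⟨hx, h0, k, hk, hk0⟩
    have h1 : x ∈ prts := mem_pos.1 ⟨hx, h0⟩
    refine List.mem_filter.2 ⟨h1, decide_eq_true ?_⟩
    fin_cases k
    · exact absurd (Or.inl rfl) hk
    · exact absurd (Or.inr rfl) hk
    · exact Or.inl hk0
    · exact Or.inr hk0
  · intro hx
    obtain ⟨h1, h2⟩ := List.mem_filter.1 hx
    have h3 := (mem_pos (cs := cs)).2 h1
    refine ⟨h3.1, h3.2, ?_⟩
    rcases of_decide_eq_true h2 with h4 | h4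
    · exact ⟨2, by decide, h4⟩
    · exact ⟨3, by decide, h4⟩

theorem VJ_01 : VJ cs isCartan X ({0, 1} : Set (Fin 4)) = RGD.Sup X (st L0) := by
  unfold VJ
  rw [NotJ_01]

theorem st_diff {L : List (Fin 4 → ℤ)} {e : Fin 4 → ℤ} : st L \ {e} = st (L.filter (· ≠ e)) := by
  ext x
  simp [st]

theorem L0_rts : ∀ x ∈ L0, x ∈ rts := fun x hx => (prts_sub x (L0_sub x hx)).1
theorem L1_rts : ∀ x ∈ L1, x ∈ rts := fun x hx => L0_rts x (L1_sub x hx)
theorem L2_rts : ∀ x ∈ L2, x ∈ rts := fun x hx => L1_rts x (L2_sub x hx)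
theorem L3_rts : ∀ x ∈ L3, x ∈ rts := fun x hx => L2_rts x (L3_sub x hx)

theorem closed_mid {L : List (Fin 4 → ℤ)} (h0 : ∀ x ∈ L, x ∈ L0) (h3 : ∀ x ∈ L3, x ∈ L) :
    Nodes.Unique.Closed cs isCartan (st L) :=
  closed_st (fun x hx => L0_sub x (h0 x hx)) fun x hx y hy z hz hb => h3 z (bt_L0 x (h0 x hx) y (h0 y hy) z hz hb)

theorem closed0 : Nodes.Unique.Closed cs isCartan (st L0) := closed_mid (fun _ h => h)
  fun x hx => L1_sub x (L2_sub x (L3_sub x hx))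
theorem closed1 : Nodes.Unique.Closed cs isCartan (st L1) := closed_mid L1_sub fun x hx => L2_sub x (L3_sub x hx)
theorem closed2 : Nodes.Unique.Closed cs isCartan (st L2) := closed_mid (fun x hx => L1_sub x (L2_sub x hx)) L3_sub
theorem closed3 : Nodes.Unique.Closed cs isCartan (st L3) :=
  closed_mid (fun x hx => L1_sub x (L2_sub x (L3_sub x hx))) fun _ h => h
theorem L3_L1' : ∀ x ∈ L3, x ∈ L1' := by decide +kernel
theorem L3_L2' : ∀ x ∈ L3, x ∈ L2' := by decide +kernel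
theorem closed1' : Nodes.Unique.Closed cs isCartan (st L1') := closed_mid L1'_sub L3_L1'
theorem closed2' : Nodes.Unique.Closed cs isCartan (st L2') := closed_mid (fun x hx => L1_sub x (L2'_sub x hx)) L3_L2'

theorem pos0 : st L0 ⊆ RGD.Pos cs isCartan := st_pos L0_sub
theorem pos1 : st L1 ⊆ RGD.Pos cs isCartan := st_pos fun x hx => L0_sub x (L1_sub x hx)
theorem pos2 : st L2 ⊆ RGD.Pos cs isCartan := st_pos fun x hx => L0_sub x (L1_sub x (L2_sub x hx))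
theorem pos3 : st L3 ⊆ RGD.Pos cs isCartan := st_pos fun x hx => L0_sub x (L1_sub x (L2_sub x (L3_sub x hx)))
theorem pos1' : st L1' ⊆ RGD.Pos cs isCartan := st_pos fun x hx => L0_sub x (L1'_sub x hx)
theorem pos2' : st L2' ⊆ RGD.Pos cs isCartan := st_pos fun x hx => L0_sub x (L1_sub x (L2'_sub x hx))

theorem inter1 : ∀ x ∈ L1, x ∈ L1' → x ∈ L2 := by decide +kernel
theorem inter2 : ∀ x ∈ L2, x ∈ L2' → x ∈ L3 := by decide +kernel
theorem refl1 : ∀ y ∈ L1, Cfsg.Agent.Nodes.RGDFold.refl A 1 y ∈ L1' := by decide +kernel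
theorem refl2 : ∀ y ∈ L2, Cfsg.Agent.Nodes.RGDFold.refl A 0 y ∈ L2' := by decide +kernel

theorem Sup_st_mono {L L' : List (Fin 4 → ℤ)} (h : ∀ x ∈ L, x ∈ L') : RGD.Sup X (st L) ≤ RGD.Sup X (st L') :=
  RGD.Sup_mono fun x hx => h x hx

section

variable (R : RGD cs isCartan p T n X) (lr : ∀ a, IsRoot cs isCartan a → bf a a = 4 → LR R a)

include R

theorem PJ_mono {J J' : Set (Fin 4)} (h : J ⊆ J') : PJ cs isCartan T X J ≤ PJ cs isCartan T X J' := by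
  have : Finite W := finiteW cs
  intro g hg
  obtain ⟨w, hw, hc⟩ := (mem_PJ_iff_cell R).1 hg
  exact (mem_PJ_iff_cell R).2 ⟨w, WJ_mono cs h hw, hc⟩

include lr

theorem norm0 {g v : Y} (hg : g ∈ PJ cs isCartan T X ({0, 1} : Set (Fin 4))) (hv : v ∈ RGD.Sup X (st L0)) :
    g * v * g⁻¹ ∈ RGD.Sup X (st L0) :=
  (Subgroup.mem_normalizer_iff.1 (PJ_norm R lr L0_rts abs0 (fun i hi => inv0 i (by
    rcases hi with rfl | hi
    · decide
    · rw [Set.mem_singleton_iff] at hi; subst hi; decide)) hg) v).1 hv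

theorem norm3 {g v : Y} (hg : g ∈ PJ cs isCartan T X ({0, 1} : Set (Fin 4))) (hv : v ∈ RGD.Sup X (st L3)) :
    g * v * g⁻¹ ∈ RGD.Sup X (st L3) :=
  (Subgroup.mem_normalizer_iff.1 (PJ_norm R lr L3_rts abs3 (fun i hi => inv3 i (by
    rcases hi with rfl | hi
    · decide
    · rw [Set.mem_singleton_iff] at hi; subst hi; decide)) hg) v).1 hv

theorem norm1 {g v : Y} (hg : g ∈ PJ cs isCartan T X ({0} : Set (Fin 4))) (hv : v ∈ RGD.Sup X (st L1)) :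
    g * v * g⁻¹ ∈ RGD.Sup X (st L1) :=
  (Subgroup.mem_normalizer_iff.1 (PJ_norm R lr L1_rts abs1 (fun i hi => inv1 i (by
    rw [Set.mem_singleton_iff] at hi; subst hi; decide)) hg) v).1 hv

theorem norm2 {g v : Y} (hg : g ∈ PJ cs isCartan T X ({1} : Set (Fin 4))) (hv : v ∈ RGD.Sup X (st L2)) :
    g * v * g⁻¹ ∈ RGD.Sup X (st L2) :=
  (Subgroup.mem_normalizer_iff.1 (PJ_norm R lr L2_rts abs2 (fun i hi => inv2 i (by
    rw [Set.mem_singleton_iff] at hi; subst hi; decide)) hg) v).1 hv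

theorem norm2' {g v : Y} (hg : g ∈ PJ cs isCartan T X ({1} : Set (Fin 4))) (hv : v ∈ RGD.Sup X (st L2)) :
    g⁻¹ * v * g ∈ RGD.Sup X (st L2) := by
  have := norm2 R lr (inv_mem hg) hv
  rwa [inv_inv] at this

theorem norm1' {g v : Y} (hg : g ∈ PJ cs isCartan T X ({0} : Set (Fin 4))) (hv : v ∈ RGD.Sup X (st L1)) :
    g⁻¹ * v * g ∈ RGD.Sup X (st L1) := by
  have := norm1 R lr (inv_mem hg) hv
  rwa [inv_inv] at this

theorem norm3' {g v : Y} (hg : g ∈ PJ cs isCartan T X ({0, 1} : Set (Fin 4))) (hv : v ∈ RGD.Sup X (st L3)) :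
    g⁻¹ * v * g ∈ RGD.Sup X (st L3) := by
  have := norm3 R lr (inv_mem hg) hv
  rwa [inv_inv] at this

/-- two conjugates of `V_p` -/
theorem p1 {g v : Y} (hg : g ∈ PJ cs isCartan T X ({0, 1} : Set (Fin 4)))
    (hg' : g ∉ PJ cs isCartan T X ({1} : Set (Fin 4))) (hv : v ∈ RGD.Sup X (st L2))
    (hv' : g⁻¹ * v * g ∈ RGD.Sup X (st L2)) : v ∈ RGD.Sup X (st L3) := by
  have : Finite W := finiteW cs
  rw [Set.pair_comm] at hg
  rcases mem_PJ_pair R (show CoxeterMatrix.F₄ 1 0 = 3 by decide) hg with h1 | ⟨x, hx, y, hy, rfl⟩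
  · exact absurd h1 hg'
  have h1 : x⁻¹ * v * x ∈ RGD.Sup X (st L2) := norm2' R lr hx hv
  have h2 : (n 0)⁻¹ * (x⁻¹ * v * x) * n 0 ∈ RGD.Sup X (st L2) := by
    have := norm2 R lr hy hv'
    have e : y * ((x * n 0 * y)⁻¹ * v * (x * n 0 * y)) * y⁻¹ = (n 0)⁻¹ * (x⁻¹ * v * x) * n 0 := by group
    rwa [e] at this
  have h3 : x⁻¹ * v * x ∈ RGD.Sup X (st L2') := by
    have h4 := conj_mem_Sup R (rp_simple cs R.nsys 0) (S := st L2) (S' := st L2')
      (fun x hx => (mem_rts cs).2 (L2_rts x hx)) (fun x hx => by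
        rw [rep_simple_refl]; exact refl2 x hx) h2
    have e : n 0 * ((n 0)⁻¹ * (x⁻¹ * v * x) * n 0) * (n 0)⁻¹ = x⁻¹ * v * x := by group
    rwa [e] at h4
  have h4 : x⁻¹ * v * x ∈ RGD.Sup X (st L3) := by
    have h5 := Nodes.Unique.inf_eq R (pos2 (cs := cs)) pos2' closed2 closed2'
    have h6 : x⁻¹ * v * x ∈ RGD.Sup X (st L2 ∩ st L2') := by rw [← h5]; exact ⟨h1, h3⟩
    exact RGD.Sup_mono (S' := st L3) (fun z hz => inter2 z hz.1 hz.2) h6
  have h5 := norm3 R lr (PJ_mono R (Set.subset_insert _ _) hx) h4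
  have e : x * (x⁻¹ * v * x) * x⁻¹ = v := by group
  rwa [e] at h5

/-- two conjugates of `V_l` -/
theorem p2 {g v : Y} (hg : g ∈ PJ cs isCartan T X ({0, 1} : Set (Fin 4)))
    (hg' : g ∉ PJ cs isCartan T X ({0} : Set (Fin 4))) (hv : v ∈ RGD.Sup X (st L1))
    (hv' : g⁻¹ * v * g ∈ RGD.Sup X (st L1)) :
    ∃ x ∈ PJ cs isCartan T X ({0, 1} : Set (Fin 4)), x⁻¹ * v * x ∈ RGD.Sup X (st L2) := by
  have : Finite W := finiteW cs
  rcases mem_PJ_pair R (show CoxeterMatrix.F₄ 0 1 = 3 by decide) hg with h1 | ⟨x, hx, y, hy, rfl⟩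
  · exact absurd h1 hg'
  have h1 : x⁻¹ * v * x ∈ RGD.Sup X (st L1) := norm1' R lr hx hv
  have h2 : (n 1)⁻¹ * (x⁻¹ * v * x) * n 1 ∈ RGD.Sup X (st L1) := by
    have := norm1 R lr hy hv'
    have e : y * ((x * n 1 * y)⁻¹ * v * (x * n 1 * y)) * y⁻¹ = (n 1)⁻¹ * (x⁻¹ * v * x) * n 1 := by group
    rwa [e] at this
  have h3 : x⁻¹ * v * x ∈ RGD.Sup X (st L1') := by
    have h4 := conj_mem_Sup R (rp_simple cs R.nsys 1) (S := st L1) (S' := st L1')
      (fun x hx => (mem_rts cs).2 (L1_rts x hx)) (fun x hx => by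
        rw [rep_simple_refl]; exact refl1 x hx) h2
    have e : n 1 * ((n 1)⁻¹ * (x⁻¹ * v * x) * n 1) * (n 1)⁻¹ = x⁻¹ * v * x := by group
    rwa [e] at h4
  refine ⟨x, PJ_mono R (by intro i hi; exact Or.inl hi) hx, ?_⟩
  have h5 := Nodes.Unique.inf_eq R (pos1 (cs := cs)) pos1' closed1 closed1'
  have h6 : x⁻¹ * v * x ∈ RGD.Sup X (st L1 ∩ st L1') := by rw [← h5]; exact ⟨h1, h3⟩
  exact RGD.Sup_mono (S' := st L2) (fun z hz => inter1 z hz.1 hz.2) h6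

end

/-! ### The covering -/

theorem e4_mem : e4 ∈ L0 ∧ e4 = sr 2 ∧ e4 ∈ rts ∧ bf e4 e4 = 2 := by decide +kernel
theorem e3_mem : e3 ∈ L1 ∧ e3 ∈ rts ∧ bf e3 e3 = 2 := by decide +kernel
theorem e2_mem : e2 ∈ L2 ∧ e2 ∈ rts ∧ bf e2 e2 = 2 ∧ e2 ∈ L1 := by decide +kernel
theorem a01_mem : a01 ∈ rts ∧ bf a01 a01 = 4 ∧ sr 0 + sr 1 = a01 ∧ bf a01 e4 = -2 ∧ a01 + e4 = e2 ∧
    a01 + (2 : ℤ) • e4 ∈ L3 ∧ a01 ∈ prts ∧ 0 ≤ bf (sr 0) a01 ∧ a01 ≠ sr 0 := by decide +kernel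
theorem sr01 : sr 0 ∈ rts ∧ (sr 1 : Fin 4 → ℤ) ∈ rts ∧ bf (sr 0) (sr 0) = bf (sr 1) (sr 1) ∧
    2 * bf (sr 0) (sr 1) = - bf (sr 0) (sr 0) ∧ (sr 0 : Fin 4 → ℤ) ∈ prts ∧ bf (sr 0) (sr 0) = 4 := by decide +kernel
theorem refl10 : Cfsg.Agent.Nodes.RGDFold.refl A 1 (Cfsg.Agent.Nodes.RGDFold.refl A 0 e4) = e3 ∧
    Cfsg.Agent.Nodes.RGDFold.refl A 1 (Cfsg.Agent.Nodes.RGDFold.refl A 0 e3) = e2 := by decide +kernel

theorem nonneg_iff {x : Fin 4 → ℤ} (h : x ∈ prts) : 0 ≤ x := (prts_sub x h).2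

section

variable (R : RGD cs isCartan p T n X) (lr : ∀ a, IsRoot cs isCartan a → bf a a = 4 → LR R a)

include R lr

theorem B_norm3 {g v : Y} (hg : g ∈ RGD.B cs isCartan T X) (hv : v ∈ RGD.Sup X (st L3)) :
    g * v * g⁻¹ ∈ RGD.Sup X (st L3) := norm3 R lr (B_le_PJ hg) hv

/-- `[V, X(α₀) X(α₀+α₁)] ≤ V_p` -/
theorem comm_Q2 {r v : Y} (hr : r ∈ RGD.Sup X (st [sr 0, a01])) (hv : v ∈ RGD.Sup X (st L0)) :
    ⁅r, v⁆ ∈ RGD.Sup X (st L2) := by
  have hB : RGD.B cs isCartan T X ≤ Subgroup.normalizer (RGD.Sup X (st L2) : Set Y) :=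
    B_le_PJ.trans (PJ_norm R lr (J := ({1} : Set (Fin 4))) L2_rts abs2 (fun i hi => inv2 i (by
      rw [Set.mem_singleton_iff] at hi; subst hi; decide)))
  refine comm_mem_of_gen (S := st [sr 0, a01]) (S' := st L0) ?_ ?_ ?_ hr hv
  · refine (RGD.Sup_le fun x hx => ?_)
    have hx' : x ∈ prts := by
      rcases List.mem_cons.1 hx with rfl | hx
      · exact sr01.2.2.2.2.1
      · rw [List.mem_singleton] at hx
        rw [hx]; exact a01_mem.2.2.2.2.2.2.1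
    exact (RGD.X_le_B ((mem_rts cs).2 (prts_sub x hx').1) (nonneg_iff hx')).trans hB
  · exact (RGD.Sup_mono pos0).trans (RGD.U_le_B.trans hB)
  · intro x hx y hy u hu v hv
    obtain ⟨h1, h2⟩ := ok_Q2 x hx y hy
    refine comm_ok R lr ?_ (L0_rts y hy) h1 h2 hu hv
    rcases List.mem_cons.1 hx with rfl | hx
    · exact sr01.1
    · rw [List.mem_singleton] at hx
      rw [hx]; exact a01_mem.1

/-- `[V_l, X(α₀+α₁)] ≤ Z` -/
theorem comm_a3 {r v : Y} (hr : r ∈ X a01) (hv : v ∈ RGD.Sup X (st L1)) : ⁅r, v⁆ ∈ RGD.Sup X (st L3) := by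
  have hB : RGD.B cs isCartan T X ≤ Subgroup.normalizer (RGD.Sup X (st L3) : Set Y) :=
    B_le_PJ.trans (PJ_norm R lr (J := ({0, 1} : Set (Fin 4))) L3_rts abs3 (fun i hi => inv3 i (by
      rcases hi with rfl | hi
      · decide
      · rw [Set.mem_singleton_iff] at hi; subst hi; decide)))
  refine comm_mem_of_gen (S := st [a01]) (S' := st L1) ?_ ?_ ?_ (RGD.le_Sup (S := st [a01]) (by simp [st]) hr) hv
  · refine (RGD.Sup_le fun x hx => ?_)
    have hx' : x ∈ prts := by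
      have := List.mem_singleton.1 hx
      rw [this]; exact a01_mem.2.2.2.2.2.2.1
    exact (RGD.X_le_B ((mem_rts cs).2 (prts_sub x hx').1) (nonneg_iff hx')).trans hB
  · exact (RGD.Sup_mono pos1).trans (RGD.U_le_B.trans hB)
  · intro x hx y hy u hu v hv
    have := List.mem_singleton.1 hx
    subst this
    obtain ⟨h1, h2⟩ := ok_a3 y hy
    exact comm_ok R lr a01_mem.1 (L1_rts y hy) h1 h2 hu hv

/-- **The conjugates of `V_l` cover `V`.** -/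
theorem p3 [Finite Y] (hcard : Nat.card (X (sr 2)) = Nat.card (X (sr 0)) ^ 2) {v : Y} (hv : v ∈ RGD.Sup X (st L0)) :
    ∃ x ∈ PJ cs isCartan T X ({0, 1} : Set (Fin 4)), x⁻¹ * v * x ∈ RGD.Sup X (st L1) := by
  classical
  have hW : Finite W := finiteW cs
  obtain ⟨h4a, h4b, h4c, h4d⟩ := e4_mem
  obtain ⟨h3a, h3b, h3c⟩ := e3_mem
  obtain ⟨h2a, h2b, h2c, h2d⟩ := e2_mem
  obtain ⟨ha1, ha2, ha3, ha4, ha5, ha6, ha7, ha8, ha9⟩ := a01_mem
  obtain ⟨hs1, hs2, hs3, hs4, hs5, hs6⟩ := sr01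
  have hr4 := (mem_rts cs).2 h4c
  have hr3 := (mem_rts cs).2 h3b
  have hr2 := (mem_rts cs).2 h2b
  have hra := (mem_rts cs).2 ha1
  have hr0 := (mem_rts cs).2 hs1
  -- elements of `B`
  have hB0 : ∀ v ∈ RGD.Sup X (st L0), v ∈ RGD.B cs isCartan T X := fun v hv => RGD.U_le_B (RGD.Sup_mono pos0 hv)
  have hQB : ∀ a ∈ X (sr 0), a ∈ RGD.B cs isCartan T X := fun a ha => RGD.X_le_B hr0 (nonneg_iff hs5) ha
  have hQB' : ∀ a ∈ X a01, a ∈ RGD.B cs isCartan T X := fun a ha => RGD.X_le_B hra (nonneg_iff ha7) ha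
  have hcomQ : ∀ a ∈ X (sr 0), ∀ b ∈ X a01, a * b = b * a := fun a ha b hb => long_comm R lr hr0 hra ha2 ha8 ha hb
  -- the map
  have hmap : ∀ z : X (sr 0) × X a01, ∃ c ∈ X e2, ∃ w ∈ RGD.Sup X (st L3),
      ⁅v⁻¹, (z.1 : Y) * (z.2 : Y)⁆ = c * w := by
    intro z
    have h1 : (z.1 : Y) * (z.2 : Y) ∈ RGD.Sup X (st [sr 0, a01]) :=
      mul_mem (RGD.le_Sup (S := st [sr 0, a01]) (by simp [st]) z.1.2)
        (RGD.le_Sup (S := st [sr 0, a01]) (by simp [st]) z.2.2)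
    have h2 := comm_Q2 R lr h1 (inv_mem hv)
    have h3 : ⁅v⁻¹, (z.1 : Y) * (z.2 : Y)⁆ ∈ RGD.Sup X (st L2) := by
      rw [← commutatorElement_inv]
      exact inv_mem h2
    obtain ⟨c, hc, w, hw, e⟩ := (Nodes.Unique.mem_peel R (pos2 (cs := cs)) closed2 h2a).1 h3
    rw [st_diff] at hw
    exact ⟨c, hc, w, hw, e⟩
  choose f hf w hw hfw using hmap
  let F : X (sr 0) × X a01 → X e2 := fun z => ⟨f z, hf z⟩
  by_cases hinj : Function.Injective F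
  · -- surjective
    have hc1 : Nat.card (X (sr 0) × X a01) = Nat.card (X e2) := by
      rw [Nat.card_prod]
      have k1 : Nat.card (X a01) = Nat.card (X (sr 0)) := by
        obtain ⟨w, hw⟩ := exists_rep_long cs hra ha2
        rw [← hw]; exact Nodes.CardSup.card_X_rep R w (isRoot_sr cs isCartan 0)
      have k2 : Nat.card (X e2) = Nat.card (X (sr 3)) := by
        obtain ⟨w, hw⟩ := exists_rep_short cs hr2 h2c
        rw [← hw]; exact Nodes.CardSup.card_X_rep R w (isRoot_sr cs isCartan 3)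
      have k3 : Nat.card (X e4) = Nat.card (X (sr 3)) := by
        obtain ⟨w, hw⟩ := exists_rep_short cs hr4 h4d
        rw [← hw]; exact Nodes.CardSup.card_X_rep R w (isRoot_sr cs isCartan 3)
      rw [k1, k2, ← k3, h4b, hcard, pow_two]
    have hbij := (Nat.bijective_iff_injective_and_card F).2 ⟨hinj, hc1⟩
    obtain ⟨x4, hx4, v1, hv1, e1⟩ := (Nodes.Unique.mem_peel R (pos0 (cs := cs)) closed0 h4a).1 hv
    rw [st_diff] at hv1
    obtain ⟨x3, hx3, v2, hv2, e2'⟩ := (Nodes.Unique.mem_peel R (pos1 (cs := cs)) closed1 h3a).1 hv1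
    rw [st_diff] at hv2
    obtain ⟨x2, hx2, z2, hz2, e3'⟩ := (Nodes.Unique.mem_peel R (pos2 (cs := cs)) closed2 h2a).1 hv2
    rw [st_diff] at hz2
    obtain ⟨z, hz⟩ := hbij.2 ⟨x2⁻¹, inv_mem hx2⟩
    have hz' : f z = x2⁻¹ := congrArg Subtype.val hz
    set r : Y := (z.1 : Y) * (z.2 : Y) with hr
    have hrB : r ∈ RGD.B cs isCartan T X := mul_mem (hQB _ z.1.2) (hQB' _ z.2.2)
    have hx2B : x2 ∈ RGD.B cs isCartan T X := RGD.X_le_B hr2 (nonneg_iff (L0_sub _ (L1_sub _ h2d))) hx2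
    have e4' : r * v * r⁻¹ = x4 * (x3 * ((x2 * z2 * x2⁻¹) * w z)) := by
      have k1 : r * v * r⁻¹ = v * ⁅v⁻¹, r⁆ := by rw [commutatorElement_def]; group
      rw [k1, hfw z, hz', e1, e2', e3']; group
    have hzz : (x2 * z2 * x2⁻¹) * w z ∈ RGD.Sup X (st L3) := mul_mem (B_norm3 R lr hx2B hz2) (hw z)
    have hk : Rp cs R.nsys (cs.simple 1 * cs.simple 0) (n 1 * n 0) :=
      (rp_simple cs R.nsys 1).mul (rp_simple cs R.nsys 0)
    have hkP : n 1 * n 0 ∈ PJ cs isCartan T X ({0, 1} : Set (Fin 4)) :=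
      LJ_le_PJ (mul_mem (n_mem_LJ R (Or.inr rfl)) (n_mem_LJ R (Or.inl rfl)))
    refine ⟨(n 1 * n 0 * r)⁻¹, inv_mem (mul_mem hkP (B_le_PJ hrB)), ?_⟩
    have e5 : (n 1 * n 0 * r)⁻¹⁻¹ * v * (n 1 * n 0 * r)⁻¹ =
        (n 1 * n 0 * x4 * (n 1 * n 0)⁻¹) * ((n 1 * n 0 * x3 * (n 1 * n 0)⁻¹) *
          (n 1 * n 0 * ((x2 * z2 * x2⁻¹) * w z) * (n 1 * n 0)⁻¹)) := by
      have k1 : (n 1 * n 0 * r)⁻¹⁻¹ * v * (n 1 * n 0 * r)⁻¹ = n 1 * n 0 * (r * v * r⁻¹) * (n 1 * n 0)⁻¹ := by group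
      rw [k1, e4']; group
    rw [e5]
    have k4 : n 1 * n 0 * x4 * (n 1 * n 0)⁻¹ ∈ X e3 := by
      have := R.conj_mem hk hr4 hx4
      rwa [rep_mul_apply, rep_simple_refl, rep_simple_refl, refl10.1] at this
    have k3 : n 1 * n 0 * x3 * (n 1 * n 0)⁻¹ ∈ X e2 := by
      have := R.conj_mem hk hr3 hx3
      rwa [rep_mul_apply, rep_simple_refl, rep_simple_refl, refl10.2] at this
    exact mul_mem (RGD.le_Sup (S := st L1) h3a k4) (mul_mem (RGD.le_Sup (S := st L1) h2d k3)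
      (Sup_st_mono (fun x hx => L2_sub x (L3_sub x hx)) (norm3 R lr hkP hzz)))
  · -- not injective
    have hni : ∃ z z', F z = F z' ∧ z ≠ z' := by
      by_contra hcon
      push Not at hcon
      exact hinj fun z z' hz => by
        by_contra hne
        exact hne (hcon z z' hz)
    obtain ⟨z, z', hzz, hne⟩ := hni
    have hff : f z = f z' := congrArg Subtype.val hzz
    set r0 : Y := (z'.1 : Y)⁻¹ * z.1 with hr0'
    set r1 : Y := (z'.2 : Y)⁻¹ * z.2 with hr1'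
    have hr0m : r0 ∈ X (sr 0) := mul_mem (inv_mem z'.1.2) z.1.2
    have hr1m : r1 ∈ X a01 := mul_mem (inv_mem z'.2.2) z.2.2
    have erq : ((z'.1 : Y) * (z'.2 : Y))⁻¹ * ((z.1 : Y) * (z.2 : Y)) = r0 * r1 := by
      have k1 := hcomQ r0 hr0m (z'.2 : Y)⁻¹ (inv_mem z'.2.2)
      calc ((z'.1 : Y) * (z'.2 : Y))⁻¹ * ((z.1 : Y) * (z.2 : Y)) = ((z'.2 : Y)⁻¹ * r0) * (z.2 : Y) := by
            rw [hr0']; group
        _ = (r0 * (z'.2 : Y)⁻¹) * (z.2 : Y) := by rw [k1]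
        _ = _ := by rw [hr1']; group
    have hrne : r0 * r1 ≠ 1 := by
      intro h1
      have h2' : r0 ∈ X a01 := by
        rw [mul_eq_one_iff_eq_inv.1 h1]; exact inv_mem hr1m
      have h2 : r0 ∈ X (sr 0) ⊓ X a01 := ⟨hr0m, h2'⟩
      rw [X_inf_X R hr0 hra ha9.symm, Subgroup.mem_bot] at h2
      have h3 : r1 = 1 := by rwa [h2, one_mul] at h1
      apply hne
      have k1 : (z.1 : Y) = z'.1 := by
        rw [hr0', inv_mul_eq_one] at h2; exact h2.symm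
      have k2 : (z.2 : Y) = z'.2 := by
        rw [hr1', inv_mul_eq_one] at h3; exact h3.symm
      exact Prod.ext (Subtype.ext k1) (Subtype.ext k2)
    -- `⁅r0 r1, v⁆ ∈ Z`
    have hrv : ⁅r0 * r1, v⁆ ∈ RGD.Sup X (st L3) := by
      rw [← erq]
      set r : Y := (z.1 : Y) * (z.2 : Y) with hr
      set r' : Y := (z'.1 : Y) * (z'.2 : Y) with hr'
      have k1 : ⁅v⁻¹, r⁆ * ⁅v⁻¹, r'⁆⁻¹ ∈ RGD.Sup X (st L3) := by
        rw [hfw z, hfw z', hff]
        have k2 : f z' * w z * (f z' * w z')⁻¹ = f z' * (w z * (w z')⁻¹) * (f z')⁻¹ := by group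
        rw [k2]
        exact B_norm3 R lr (RGD.X_le_B hr2 (nonneg_iff (L0_sub _ (L1_sub _ h2d))) (hf z')) (mul_mem (hw z) (inv_mem (hw z')))
      have hr'B : r' ∈ RGD.B cs isCartan T X := mul_mem (hQB _ z'.1.2) (hQB' _ z'.2.2)
      have k2 := B_norm3 R lr (mul_mem (inv_mem hr'B) (hB0 v hv)) k1
      have k3 : r'⁻¹ * v * (⁅v⁻¹, r⁆ * ⁅v⁻¹, r'⁆⁻¹) * (r'⁻¹ * v)⁻¹ = ⁅r'⁻¹ * r, v⁆ := by
        rw [commutatorElement_def, commutatorElement_def, commutatorElement_def]; group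
      rwa [k3] at k2
    -- the natural module
    have hA : A2 cs isCartan (sr 0) (sr 1) := a2 cs hr0 ((mem_rts cs).2 hs2) hs3 hs4
    obtain ⟨g, hg, hgr⟩ := nat_mod R hA hr0m (s := r1) (by rw [ha3]; exact hr1m)
    rw [ha3] at hgr
    have hgP : g ∈ PJ cs isCartan T X ({0, 1} : Set (Fin 4)) := PJ_mono R (Set.subset_insert _ _) (LJ_le_PJ hg)
    set ρ := g * (r0 * r1) * g⁻¹ with hρ
    have hρ1 : ρ ≠ 1 := by
      intro h1
      apply hrne
      have : r0 * r1 = g⁻¹ * ρ * g := by rw [hρ]; group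
      rw [this, h1]; group
    have hv' := norm0 R lr hgP hv
    have hρv : ⁅ρ, g * v * g⁻¹⁆ ∈ RGD.Sup X (st L3) := by
      have k1 : ⁅ρ, g * v * g⁻¹⁆ = g * ⁅r0 * r1, v⁆ * g⁻¹ := by
        rw [hρ, commutatorElement_def, commutatorElement_def]; group
      rw [k1]
      exact norm3 R lr hgP hrv
    obtain ⟨x4, hx4, v1, hv1, e1⟩ := (Nodes.Unique.mem_peel R (pos0 (cs := cs)) closed0 h4a).1 hv'
    rw [st_diff] at hv1
    have hx4B : x4 ∈ RGD.B cs isCartan T X := RGD.X_le_B hr4 (nonneg_iff (L0_sub _ h4a)) hx4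
    have h5 : ⁅ρ, x4⁆ ∈ RGD.Sup X (st L3) := by
      have k1 : ⁅ρ, x4⁆ = ⁅ρ, g * v * g⁻¹⁆ * (x4 * ⁅ρ, v1⁆ * x4⁻¹)⁻¹ := by
        rw [e1, commutatorElement_def, commutatorElement_def, commutatorElement_def]; group
      rw [k1]
      exact mul_mem hρv (inv_mem (B_norm3 R lr hx4B (comm_a3 R lr hgr hv1)))
    have h6 := btw_135 R hra hr4 ha2 h4d ha4 hgr hx4
    have hrs : IsRoot cs isCartan (a01 + e4) := by rw [ha5]; exact hr2
    have hrl : IsRoot cs isCartan (a01 + (2 : ℤ) • e4) := (mem_rts cs).2 (L3_rts _ ha6)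
    obtain ⟨c, hc, y, hy, e6⟩ := dec135 R lr hrs hrl ha2 h4d ha4 h6
    rw [ha5] at hc
    have h7 : c = 1 := by
      have k1 : c ∈ RGD.Sup X (st L3) := by
        have : c = ⁅ρ, x4⁆ * y⁻¹ := by rw [e6]; group
        rw [this]
        exact mul_mem h5 (inv_mem (RGD.le_Sup (S := st L3) ha6 hy))
      have k2 := Nodes.Unique.inf_eq R (S := ({e2} : Set (Fin 4 → ℤ))) (S' := st L3)
        (by rintro _ rfl; exact pos2 (cs := cs) h2a) pos3
        (by rintro _ rfl _ rfl z hz; exact Nodes.Unique.btwn_self hr2 hz) closed3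
      have k3 : c ∈ RGD.Sup X (({e2} : Set (Fin 4 → ℤ)) ∩ st L3) := by
        rw [← k2]; exact ⟨RGD.le_Sup (S := {e2}) rfl hc, k1⟩
      have k4 : RGD.Sup X (({e2} : Set (Fin 4 → ℤ)) ∩ st L3) ≤ ⊥ := by
        refine RGD.Sup_le ?_
        rintro z ⟨rfl, hz'⟩
        exact absurd hz' (by decide +kernel : e2 ∉ L3)
      exact Subgroup.mem_bot.1 (k4 k3)
    rw [h7, one_mul] at e6
    have h8 : x4 = 1 := ne135 R lr hra hr4 ha2 h4d ha4 hrs hrl (nonneg_iff ha7) (nonneg_iff (L0_sub _ h4a)) hgr hρ1 hx4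
      (by rw [e6]; exact hy)
    refine ⟨g⁻¹, inv_mem hgP, ?_⟩
    rw [inv_inv, e1, h8, one_mul]
    exact hv1

/-- **Minimal parabolic of type `{0, 1}`.** -/
theorem of_plane [Finite Y] (hcard : Nat.card (X (sr 2)) = Nat.card (X (sr 0)) ^ 2) {a : Y}
    (hm : GMin cs isCartan T X a {0, 1}) {v : Y} (hv : v ∈ VJ cs isCartan X (({0, 1} : Finset (Fin 4)) : Set (Fin 4)))
    (hva : v * a = a * v) : v ∈ RGD.Sup X (st L3) := by
  have hset : (({0, 1} : Finset (Fin 4)) : Set (Fin 4)) = ({0, 1} : Set (Fin 4)) := by simp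
  have haP := hm.mem
  rw [hset] at haP
  rw [hset, VJ_01] at hv
  have hno : ∀ (g : Y) (i : Fin 4), g⁻¹ * a * g ∉ PJ cs isCartan T X ({i} : Set (Fin 4)) := by
    intro g i hg
    have := hm.min g {i} (by rwa [Finset.coe_singleton])
    rw [Finset.card_singleton] at this
    exact absurd this (by decide)
  have hconj : ∀ g : Y, (g⁻¹ * a * g)⁻¹ * (g⁻¹ * v * g) * (g⁻¹ * a * g) = g⁻¹ * v * g := by
    intro g
    have e : (g⁻¹ * a * g)⁻¹ * (g⁻¹ * v * g) * (g⁻¹ * a * g) = g⁻¹ * (a⁻¹ * (v * a)) * g := by group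
    rw [e, hva]; group
  have hmem : ∀ g ∈ PJ cs isCartan T X ({0, 1} : Set (Fin 4)),
      g⁻¹ * a * g ∈ PJ cs isCartan T X ({0, 1} : Set (Fin 4)) := fun g hg =>
    mul_mem (mul_mem (inv_mem hg) haP) hg
  -- points
  have caseA : ∀ x ∈ PJ cs isCartan T X ({0, 1} : Set (Fin 4)), x⁻¹ * v * x ∈ RGD.Sup X (st L2) →
      v ∈ RGD.Sup X (st L3) := by
    intro x hx hvx
    have h1 := p1 R lr (hmem x hx) (hno x 1) hvx (by rw [hconj]; exact hvx)
    have h2 := norm3 R lr hx h1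
    have e : x * (x⁻¹ * v * x) * x⁻¹ = v := by group
    rwa [e] at h2
  obtain ⟨x, hx, hvx⟩ := p3 R lr hcard hv
  obtain ⟨y, hy, hvy⟩ := p2 R lr (hmem x hx) (hno x 0) hvx (by rw [hconj]; exact hvx)
  refine caseA (x * y) (mul_mem hx hy) ?_
  have e : (x * y)⁻¹ * v * (x * y) = y⁻¹ * (x⁻¹ * v * x) * y := by group
  rw [e]
  exact hvy

end

end Cfsg.Agent.H743.AH.SixB
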