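import Cfsg.Agent.H743.AH.BNTor
import Cfsg.Agent.H743.AH.TwFBN
import Cfsg.Agent.H743.AH.TwFA

/-!
# S2451, (C) for the groups `²F₄(q)`, `q > 2`: the common displacements (helper743)

* `dis_le` : `Dis ⊆ {1}`.
-/

set_option autoImplicit false
set_option linter.unusedSectionVars false

open scoped Pointwise

namespace Cfsg.Agent.H743.AH.TwF

open Cfsg.Agent.SplitTwo Cfsg.Agent.SplitTwo.ZS Cfsg.Agent.TitsThree.RankTwoZ Cfsg.Agent.KFacts.TwF4
open Cfsg.Agent.KFacts.TwF4.Full Cfsg.Agent.KFacts.TwF4.SylU Cfsg.Agent.KFacts.TwF4.Inv Cfsg.Agent.KFacts.TwF4.Arc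
open Cfsg.Agent.SplitTwo.RootSysZ Subgroup

universe u

section Full

variable {F : Type*} [Field F] {σ : F →+* F} {G : Type u} [Group G] (S : Full σ G)

/-- `n` acts on the indices of the root groups as an element of the dihedral group -/
def DihS : Subgroup G where
  carrier := {w | ∃ c : ℤ, Maps S.R.X w (fun k => ((2 * c : ℤ) : ZMod (2 * 8)) + k) ∨
    Maps S.R.X w (fun k => ((2 * c : ℤ) : ZMod (2 * 8)) - k)}
  one_mem' := ⟨0, Or.inl (Maps.one.congr fun k => by simp)⟩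
  mul_mem' := by
    rintro a b ⟨c, hc⟩ ⟨d, hd⟩
    rcases hc with hc | hc <;> rcases hd with hd | hd
    · exact ⟨c + d, Or.inl ((hc.mul hd).congr fun k => by simp only [Function.comp]; push_cast; ring)⟩
    · exact ⟨c + d, Or.inr ((hc.mul hd).congr fun k => by simp only [Function.comp]; push_cast; ring)⟩
    · exact ⟨c - d, Or.inr ((hc.mul hd).congr fun k => by simp only [Function.comp]; push_cast; ring)⟩
    · exact ⟨c - d, Or.inl ((hc.mul hd).congr fun k => by simp only [Function.comp]; push_cast; ring)⟩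
  inv_mem' := by
    rintro a ⟨c, hc | hc⟩
    · exact ⟨-c, Or.inl (hc.inv fun k => by push_cast; ring)⟩
    · exact ⟨c, Or.inr (hc.inv fun k => by push_cast; ring)⟩

theorem n1_dih : S.n1 ∈ DihS S := ⟨5, Or.inr (S.n1_maps.congr fun k => by norm_num)⟩

theorem n2_dih : S.n2 ∈ DihS S := ⟨4, Or.inr (S.n2_maps.congr fun k => by norm_num)⟩

theorem T_dih : S.T ≤ DihS S := fun t ht => ⟨0, Or.inl (Maps.congr ht fun k => by simp)⟩

/-- the longest element inverts the torus -/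
theorem four_h (c d : Fˣ) : (S.n1 * S.n2) ^ 4 * S.h c d * ((S.n1 * S.n2) ^ 4)⁻¹ = (S.h c d)⁻¹ := by
  have key : ∀ c d : Fˣ, (S.n1 * S.n2) * S.h c d * (S.n1 * S.n2)⁻¹ = S.h (Units.map (σ : F →* F) c / d) c := by
    intro c d
    have e : (S.n1 * S.n2) * S.h c d * (S.n1 * S.n2)⁻¹ = S.n1 * (S.n2 * S.h c d * S.n2⁻¹) * S.n1⁻¹ := by group
    rw [e, S.n2_h, S.n1_h, inv_inv, inv_div]
  have e : ∀ r : G, r ^ 4 * S.h c d * (r ^ 4)⁻¹ = r * (r * (r * (r * S.h c d * r⁻¹) * r⁻¹) * r⁻¹) * r⁻¹ := by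
    intro r
    have e4 : r ^ 4 = r * r * r * r := by simp only [pow_succ, pow_zero, one_mul]
    rw [e4]
    simp only [mul_inv_rev, mul_assoc]
  have h1 : ∀ x : Fˣ, Units.map (σ : F →* F) (Units.map (σ : F →* F) x) = x ^ 2 := fun x => map_map σ S.sq x
  have a2 : Units.map (σ : F →* F) (Units.map (σ : F →* F) c / d) / c = c / Units.map (σ : F →* F) d := by
    rw [map_div, h1, div_eq_div_iff_mul_eq_mul, pow_two, div_mul_cancel]
  have a3 : Units.map (σ : F →* F) (c / Units.map (σ : F →* F) d) / (Units.map (σ : F →* F) c / d) = d⁻¹ := by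
    rw [map_div, h1, div_div_div_cancel_left, pow_two, div_mul_cancel_left]
  have a4 : Units.map (σ : F →* F) d⁻¹ / (c / Units.map (σ : F →* F) d) = c⁻¹ := by
    rw [map_inv, div_div_eq_mul_div, inv_mul_cancel, one_div]
  rw [e, key, key, key, key, a2, a3, a4, S.h_inv]

variable [Finite F] [Finite G] (hF : ∃ c : Fˣ, c ≠ 1)

include hF in
/-- an element of `DihS` centralising `T` lies in `T` -/
theorem mem_T_of_comm {n : G} (hn : n ∈ DihS S) (hc : ∀ t ∈ S.T, n * t * n⁻¹ = t) : n ∈ S.T := by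
  have hd : ∀ (j k : ℤ), (∀ x ∈ S.XZ j, n * x * n⁻¹ ∈ S.XZ k) → (8 : ℤ) ∣ k - j := by
    intro j k h
    by_contra hkj
    obtain ⟨t, ht, ht1⟩ := AutTau.exists_Tk S hF j
    obtain ⟨x, hx, hx1⟩ := S.zsys8.exists_ne j
    have h1 := S.fpf hkj ht ht1 (h x hx) (by
      have h2 := S.Tk_comm ht hx
      have h3 := hc t ht.1
      calc t * (n * x * n⁻¹) * t⁻¹ = (n * t * n⁻¹) * (n * x * n⁻¹) * (n * t * n⁻¹)⁻¹ := by rw [h3]
        _ = n * (t * x) * t⁻¹ * n⁻¹ := by group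
        _ = n * (x * t) * t⁻¹ * n⁻¹ := by rw [h2]
        _ = _ := by group)
    exact hx1 (conj_eq_one_iff.1 h1)
  obtain ⟨c, h | h⟩ := hn
  · have h1 : (8 : ℤ) ∣ 2 * c - 0 := by
      have h2 := hd 0 (2 * c + 0) fun x hx => by
        have h3 := (h ((0 : ℤ) : ZMod (2 * 8)) x).2 hx
        show _ ∈ S.R.X _
        push_cast at h3 ⊢
        exact h3
      rwa [add_zero] at h2
    rw [sub_zero] at h1
    obtain ⟨k, hk⟩ := h1
    rcases Int.even_or_odd' k with ⟨l, hl | hl⟩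
    · -- translation by a multiple of 16
      show Maps S.R.X n id
      refine h.congr fun j => ?_
      have h2 : ((2 * c : ℤ) : ZMod (2 * 8)) = 0 := by
        rw [ZMod.intCast_zmod_eq_zero_iff_dvd]
        exact ⟨l, by push_cast; omega⟩
      rw [h2, zero_add, id]
    · -- `n` is the longest element modulo `T`
      exfalso
      have h2 : ((2 * c : ℤ) : ZMod (2 * 8)) = 8 := by
        have h3 : (2 * c : ℤ) = 8 + 16 * l := by omega
        rw [h3]
        push_cast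
        have h4 : (16 : ZMod (2 * 8)) = 0 := by decide
        rw [h4, zero_mul, add_zero]
      have h5 : Maps S.R.X ((S.n1 * S.n2) ^ 4) (fun k => (8 : ZMod (2 * 8)) + k) := by
        have h6 : Maps S.R.X (S.n1 * S.n2) (fun k => 2 + k) := (S.n1_maps.mul S.n2_maps).congr fun k => by
          simp only [Function.comp]
          ring
        have e : (S.n1 * S.n2) ^ 4 = S.n1 * S.n2 * (S.n1 * S.n2) * (S.n1 * S.n2) * (S.n1 * S.n2) := by
          simp only [pow_succ, pow_zero, one_mul]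
        rw [e]
        exact (((h6.mul h6).mul h6).mul h6).congr fun k => by
          simp only [Function.comp]
          ring
      have h6 : n * ((S.n1 * S.n2) ^ 4)⁻¹ ∈ S.T := by
        show Maps S.R.X _ id
        have h7 := h5.inv (g := fun k => k - 8) fun k => by ring
        exact (h.mul h7).congr fun k => by
          simp only [Function.comp, id]
          rw [h2]
          ring
      obtain ⟨u, hu⟩ := hF
      have ht : S.h u 1 ∈ S.T := S.mem_T.2 ⟨u, 1, rfl⟩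
      have h7 := hc _ ht
      have h8 := four_h S u 1
      have h9 := S.T_comm h6 (inv_mem ht)
      have h10 : S.h u 1 = (S.h u 1)⁻¹ := by
        calc S.h u 1 = n * S.h u 1 * n⁻¹ := h7.symm
          _ = (n * ((S.n1 * S.n2) ^ 4)⁻¹) * ((S.n1 * S.n2) ^ 4 * S.h u 1 * ((S.n1 * S.n2) ^ 4)⁻¹) *
              (n * ((S.n1 * S.n2) ^ 4)⁻¹)⁻¹ := by group
          _ = (n * ((S.n1 * S.n2) ^ 4)⁻¹) * (S.h u 1)⁻¹ * (n * ((S.n1 * S.n2) ^ 4)⁻¹)⁻¹ := by rw [h8]
          _ = _ := by rw [h9, mul_inv_cancel_right]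
      rw [S.h_inv] at h10
      have h11 := (S.h_inj _ _ _ _ h10).1
      exact hu (unit_sq S (mul_eq_one_iff_eq_inv.2 h11))
  · exfalso
    have h1 : (8 : ℤ) ∣ 2 * c - 0 := by
      have h2 := hd 0 (2 * c - 0) fun x hx => by
        have h3 := (h ((0 : ℤ) : ZMod (2 * 8)) x).2 hx
        show _ ∈ S.R.X _
        push_cast at h3 ⊢
        exact h3
      rwa [sub_zero] at h2
    have h2 : (8 : ℤ) ∣ 2 * c - 1 - 1 := hd 1 (2 * c - 1) fun x hx => by
      have h3 := (h ((1 : ℤ) : ZMod (2 * 8)) x).2 hx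
      show _ ∈ S.R.X _
      push_cast at h3 ⊢
      exact h3
    omega

end Full

section BN

open Cfsg Cfsg.Agent.Tits.Core Cfsg.Agent.Tits.Core.Bldg Cfsg.Agent.Tits.OfBN Cfsg.Agent.FixBN
  Cfsg.Agent.Tits.OppRes Cfsg.Agent.H197.Cls Cfsg.Agent.LieExceptional.BNPairCore

variable {F : Type*} [Field F] {σ : F →+* F} {G : Type u} [Group G] (S : Full σ G) [Finite F] [Finite G]
  (hF : ∃ c : Fˣ, c ≠ 1) (hR : S.R.p = 2) {P : Cfsg.BNPair G} (Sp : Split P 2 (J S.XZ 1 8))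
  (hPS : P.S = {S.n1, S.n2}) (hTN : S.T ≤ P.N)

include hF hR Sp in
theorem B_form {g : G} (hg : g ∈ P.B) : ∃ b ∈ J S.XZ 1 8, ∃ t ∈ S.T, g = b * t := by
  rw [← Sp.normalizer_eq] at hg
  exact norm_U S hF hR fun x => mem_normalizer_iff.1 hg x

include Sp in
theorem T_le_B : S.T ≤ P.B := by
  intro t ht
  rw [← Sp.normalizer_eq, mem_normalizer_iff]
  intro x
  refine ⟨fun h => S.T_conj_J ht h, fun h => ?_⟩
  have h1 := S.T_conj_J (inv_mem ht) h
  have e : t⁻¹ * (t * x * t⁻¹) * t⁻¹⁻¹ = x := by group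
  rwa [e] at h1

include hF hR Sp hTN in
theorem BN_le : P.B ⊓ P.N ≤ S.T := by
  intro g hg
  obtain ⟨b, hb, t, ht, e⟩ := B_form S hF hR Sp hg.1
  have hbB : b ∈ P.B := Sp.le hb
  have hbN : b ∈ P.N := by
    have : b = g * t⁻¹ := by rw [e]; group
    rw [this]
    exact mul_mem hg.2 (inv_mem (hTN ht))
  obtain ⟨m, hm, h1⟩ := Sp.tor
  have h2 := h1 b hbB hbN
  obtain ⟨k, hk⟩ := Sp.isP ⟨b, hb⟩
  have h3 : b ^ 2 ^ k = 1 := congrArg Subtype.val hk
  have h4 : orderOf b ∣ 1 := by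
    have h5 : Nat.gcd m (2 ^ k) = 1 := by
      apply Nat.Coprime.pow_right
      rw [Nat.coprime_comm, Nat.Prime.coprime_iff_not_dvd Nat.prime_two]
      exact hm
    rw [← h5]
    exact Nat.dvd_gcd (orderOf_dvd_of_pow_eq_one h2) (orderOf_dvd_of_pow_eq_one h3)
  have h5 : b = 1 := orderOf_eq_one_iff.1 (Nat.dvd_one.1 h4)
  rw [e, h5, one_mul]
  exact ht

include hF hR Sp hPS hTN in
theorem N_le : P.N ≤ DihS S := by
  rw [← P.closure_sup, sup_le_iff, closure_le]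
  constructor
  · rw [hPS]
    rintro x (rfl | rfl)
    · exact n1_dih S
    · exact n2_dih S
  · exact (BN_le S hF hR Sp hTN).trans (T_dih S)

include hF hR Sp in
theorem B_comm : ∀ x ∈ P.B, ∀ y ∈ P.B, x * y * x⁻¹ * y⁻¹ ∈ J S.XZ 1 8 := by
  intro x hx y hy
  obtain ⟨b, hb, t, ht, rfl⟩ := B_form S hF hR Sp hx
  obtain ⟨b', hb', t', ht', rfl⟩ := B_form S hF hR Sp hy
  have h1 := S.T_comm ht ht'
  have e : b * t * (b' * t') * (b * t)⁻¹ * (b' * t')⁻¹ = b * (t * b' * t⁻¹) * (t' * b⁻¹ * t'⁻¹) * b'⁻¹ := by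
    calc b * t * (b' * t') * (b * t)⁻¹ * (b' * t')⁻¹ = b * (t * b' * t⁻¹) * (t * t') * t⁻¹ * b⁻¹ * t'⁻¹ * b'⁻¹ := by
          group
      _ = b * (t * b' * t⁻¹) * (t' * t) * t⁻¹ * b⁻¹ * t'⁻¹ * b'⁻¹ := by rw [h1]
      _ = _ := by group
  rw [e]
  exact mul_mem (mul_mem (mul_mem hb (S.T_conj_J ht hb')) (S.T_conj_J ht' (inv_mem hb))) (inv_mem hb')

variable [hN : ((P.B ⊓ P.N).subgroupOf P.N).Normal]
  {I : Type*} [Fintype I] [DecidableEq I] {M : CoxeterMatrix I} (e : I ≃ P.S) (cs : CoxeterSystem M (WP P)) [Fc : Cox cs]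
  (hcs : ∀ i, cs.simple i = QuotientGroup.mk (⟨(e i : G), P.subset (e i).2⟩ : P.N))

include hF hR Sp hPS hTN in
/-- **The common displacements.** -/
theorem dis_eq_one {a b : G} (hab : Good 2 a b) {w : WP P} (hw : w ∈ Dis (bldg P e cs hcs) a b) : w = 1 := by
  have hfact : Fact (Nat.Prime 2) := ⟨Nat.prime_two⟩
  obtain ⟨n, rfl⟩ := QuotientGroup.mk_surjective w
  have h1 : ∀ t ∈ S.T, (n : G)⁻¹ * t * n = t := by
    intro t ht
    have h2 := BNTor.comm_of_mem_dis e cs hcs Sp (B_comm S hF hR Sp) hab hw (T_le_B S Sp ht) (hTN ht)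
    have h3 : (n : G)⁻¹ * t * n ∈ S.T := by
      apply BN_le S hF hR Sp hTN
      refine mem_inf.2 ⟨?_, P.N.mul_mem (P.N.mul_mem (P.N.inv_mem n.2) (hTN ht)) n.2⟩
      have h4 := P.conj_mem (n : G)⁻¹ (inv_mem n.2) t ⟨T_le_B S Sp ht, hTN ht⟩
      rwa [inv_inv] at h4
    exact mul_inv_eq_one.1 (S.U_inf_T (mul_mem h3 (inv_mem ht)) h2)
  have h2 : (n : G) ∈ S.T := by
    refine mem_T_of_comm S hF (N_le S hF hR Sp hPS hTN n.2) fun t ht => ?_
    have h3 := h1 t ht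
    calc (n : G) * t * (n : G)⁻¹ = n * ((n : G)⁻¹ * t * n) * (n : G)⁻¹ := by rw [h3]
      _ = t := by group
  rw [QuotientGroup.eq_one_iff, mem_subgroupOf]
  exact ⟨T_le_B S Sp h2, n.2⟩

omit Fc in
include hF hR Sp hTN hPS in
/-- the order of `n₁ n₂` modulo `B ∩ N` -/
theorem orderOf_n : orderOf ((QuotientGroup.mk (⟨S.n1, P.subset (by rw [hPS]; exact Set.mem_insert _ _)⟩ : P.N) : WP P) *
    QuotientGroup.mk (⟨S.n2, P.subset (by rw [hPS]; exact Set.mem_insert_of_mem _ rfl)⟩ : P.N)) = 8 := by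
  have hfact : Fact (Nat.Prime 2) := ⟨Nat.prime_two⟩
  have hN1 : S.n1 ∈ P.N := P.subset (by rw [hPS]; exact Set.mem_insert _ _)
  have hN2 : S.n2 ∈ P.N := P.subset (by rw [hPS]; exact Set.mem_insert_of_mem _ rfl)
  have h2 : Maps S.R.X (S.n1 * S.n2) (fun k => 2 + k) := (S.n1_maps.mul S.n2_maps).congr fun k => by
    simp only [Function.comp]
    ring
  have hp : ∀ l : ℕ, Maps S.R.X ((S.n1 * S.n2) ^ l) (fun k => (2 * l : ℕ) + k) := by
    intro l
    induction l with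
    | zero => rw [pow_zero]; exact Maps.one.congr fun k => by simp
    | succ l ih =>
      rw [pow_succ]
      exact (ih.mul h2).congr fun k => by
        simp only [Function.comp]
        push_cast
        ring
  have hmk : ∀ l : ℕ, ((QuotientGroup.mk (⟨S.n1, hN1⟩ : P.N) : WP P) * QuotientGroup.mk (⟨S.n2, hN2⟩ : P.N)) ^ l = 1 ↔
      (S.n1 * S.n2) ^ l ∈ P.B := by
    intro l
    have e : ((QuotientGroup.mk (⟨S.n1, hN1⟩ : P.N) : WP P) * QuotientGroup.mk (⟨S.n2, hN2⟩ : P.N)) ^ l =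
        QuotientGroup.mk ((⟨S.n1, hN1⟩ * ⟨S.n2, hN2⟩ : P.N) ^ l) := rfl
    rw [e, QuotientGroup.eq_one_iff, mem_subgroupOf, mem_inf]
    exact ⟨fun h => h.1, fun h => ⟨h, SetLike.coe_mem _⟩⟩
  have h8 := orderOf_eq_prime_pow (p := 2) (n := 2) (x := (QuotientGroup.mk (⟨S.n1, hN1⟩ : P.N) : WP P) *
    QuotientGroup.mk (⟨S.n2, hN2⟩ : P.N)) (by
      rw [hmk]
      intro h
      have h3 := hp 4
      -- `X_1 → X_9`
      rw [← Sp.normalizer_eq] at h
      obtain ⟨x, hx, hx1⟩ := S.zsys8.exists_ne 1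
      have h4 := (mem_normalizer_iff.1 h x).1 (mem_J hx le_rfl (by norm_num))
      have h5 : (S.n1 * S.n2) ^ 4 * x * ((S.n1 * S.n2) ^ 4)⁻¹ ∈ S.XZ 9 := by
        have h6 := (h3 ((1 : ℤ) : ZMod (2 * 8)) x).2 hx
        show _ ∈ S.R.X _
        have e : ((2 * 4 : ℕ) : ZMod (2 * 8)) + ((1 : ℤ) : ZMod (2 * 8)) = ((9 : ℤ) : ZMod (2 * 8)) := by
          push_cast; ring
        dsimp only at h6
        rw [e] at h6
        exact h6
      exact hx1 (conj_eq_one_iff.1 (inter_nine S hF h5 h4))) (by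
      rw [hmk]
      apply T_le_B S Sp
      show Maps S.R.X _ id
      refine (hp 8).congr fun k => ?_
      have e : ((2 * 8 : ℕ) : ZMod (2 * 8)) = 0 := by decide
      rw [e, zero_add, id])
  rw [h8]
  norm_num

/-- `n₁ ≠ n₂` -/
theorem n1_ne_n2 : S.n1 ≠ S.n2 := by
  intro h
  obtain ⟨y, hy, hy1⟩ := S.zsys8.exists_ne 1
  have h1 := S.n1_refl.mem' (k := 9) hy (by norm_num)
  have h2 := S.n2_refl.mem' (k := 7) hy (by norm_num)
  rw [← h] at h2
  have h3 := S.X_inf_near (i := 7) (j := 9) (by norm_num) (by norm_num) h2 h1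
  exact hy1 (conj_eq_one_iff.1 h3)

end BN

section Final

open Cfsg Cfsg.Agent.Tits.Core Cfsg.Agent.Tits.Core.Bldg Cfsg.Agent.Tits.OfBN Cfsg.Agent.FixBN
  Cfsg.Agent.Tits.OppRes Cfsg.Agent.H197.Cls Cfsg.Agent.LieExceptional.BNPairCore Cfsg.Lie

/-- **The building of `²F₄(q)`, `q > 2`, and the common displacements.** -/
theorem exists_dis {K : Type u} [Field K] [Fintype K] {m : ℕ} (hm : 1 ≤ m) (hK : Fintype.card K = 2 ^ (2 * m + 1)) :
    ∃ (M : CoxeterMatrix (Fin 2)) (W : Type u) (_ : Group W) (_ : Finite W) (cs : CoxeterSystem M W)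
      (C : Type u) (_ : Finite C) (_ : Nonempty C) (_ : MulAction ↥(twistedF4 K (2 ^ m)) C) (Δ : Bldg cs C)
      (_ : Sys Δ ↥(twistedF4 K (2 ^ m)) 2), M 0 1 = 8 ∧ Δ.Thick ∧
      (∀ g : ↥(twistedF4 K (2 ^ m)), (∀ c : C, g • c = c) → g = 1) ∧
      ∀ a b : ↥(twistedF4 K (2 ^ m)), Good 2 a b → ∀ w ∈ Dis Δ a b, w = 1 := by
  have hfact : Fact (Nat.Prime 2) := ⟨Nat.prime_two⟩
  have := Cfsg.Agent.ChevalleyStructure.TwF4.Twisted.charP_two hK
  have hfin : Finite ↥(twistedF4 K (2 ^ m)) := inferInstance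
  have hFc : Nat.card K = 2 ^ (2 * m + 1) := by rw [Nat.card_eq_fintype_card, hK]
  have h8 : 8 ≤ Nat.card K := by
    rw [hFc]
    calc 8 = 2 ^ 3 := by norm_num
      _ ≤ _ := Nat.pow_le_pow_right (by norm_num) (by omega)
  have hF : ∃ c : Kˣ, c ≠ 1 := by
    have h1 : 1 < Nat.card Kˣ := by
      rw [Nat.card_units]
      omega
    have h2 : Nontrivial Kˣ := Finite.one_lt_card_iff_nontrivial.1 h1
    exact exists_ne 1
  obtain ⟨φ, S, P, hR, Sp, hPS, hTN⟩ := exists_bn hK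
  have hN := normal_subgroupOf P
  obtain ⟨M', cs', hcs'⟩ := S0320.result P
  have h12 : S.n1 ≠ S.n2 := n1_ne_n2 S
  have m1 : S.n1 ∈ P.S := by rw [hPS]; exact Set.mem_insert _ _
  have m2 : S.n2 ∈ P.S := by rw [hPS]; exact Set.mem_insert_of_mem _ rfl
  let f : Fin 2 → P.S := ![⟨S.n1, m1⟩, ⟨S.n2, m2⟩]
  have hf : Function.Bijective f := by
    constructor
    · intro i j hij
      fin_cases i <;> fin_cases j
      · rfl
      · exact absurd (congrArg Subtype.val hij) h12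
      · exact absurd (congrArg Subtype.val hij).symm h12
      · rfl
    · rintro ⟨x, hx⟩
      have h1 := hx
      rw [hPS] at h1
      rcases h1 with rfl | rfl
      · exact ⟨0, rfl⟩
      · exact ⟨1, rfl⟩
  let e : Fin 2 ≃ P.S := _root_.Equiv.ofBijective f hf
  have hcs : ∀ i, (cs'.reindex e.symm).simple i = QuotientGroup.mk (⟨(e i : ↥(twistedF4 K (2 ^ m))),
      P.subset (e i).2⟩ : P.N) := fun i => by
    rw [CoxeterSystem.reindex_simple, hcs']
    rfl
  have hW : Finite (WP P) := inferInstance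
  have Fc : Cox (cs'.reindex e.symm) := inferInstance
  refine ⟨M'.reindex e.symm, WP P, inferInstance, hW, cs'.reindex e.symm, ↥(twistedF4 K (2 ^ m)) ⧸ P.B, inferInstance,
    ⟨QuotientGroup.mk 1⟩, inferInstance, bldg P e (cs'.reindex e.symm) hcs, FixBN.OfBN.sys e (cs'.reindex e.symm) hcs Sp,
    ?_, thick P e (cs'.reindex e.symm) hcs, fun g hg => ?_, fun a b hab w hw => ?_⟩
  · rw [← Cfsg.Agent.Tits.Generic.orderOf_eq (cs'.reindex e.symm) 0 1, hcs, hcs]
    exact orderOf_n S hF hR Sp hPS hTN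
  · have h1 : g ∈ P.B.normalCore := by
      intro k
      have h2 := hg (QuotientGroup.mk k⁻¹)
      rw [FixBN.OfBN.smul_mk_eq, inv_inv] at h2
      exact h2
    rw [Sp.core] at h1
    exact Subgroup.mem_bot.1 h1
  · exact dis_eq_one S hF hR Sp hPS hTN e (cs'.reindex e.symm) hcs hab hw

end Final

end Cfsg.Agent.H743.AH.TwF
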