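import Mathlib
import Cfsg.Agent.S0030
import Cfsg.Agent.Lib.ProductSet

/-!
# Centralisers of elements of odd order in groups `R : L`, `L` of rank one (helper743)

`RC M V R Y D T n` : `M = V T ∪ V T n V`, `V = R Y` a 2-group, `R` normal in `M`, `T` abelian of odd order, inverted by
`n` and acting fixed point freely on `Y`, the fixed points of the elements of `T` on `R` lie in `D`.

* `card_sq_le` : **a 2-subgroup `X` of `M` commuting with an element `≠ 1` of odd order of `M` lies in `R` and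
  `|X| ^ 2 ≤ |R| |D|`.**
-/

set_option autoImplicit false
set_option linter.unusedSectionVars false

namespace Cfsg.Agent.H743.AH

open Subgroup
open scoped Pointwise

variable {G : Type*} [Group G]

/-- `M = R : L`, `L` of rank one -/
structure RC (M V R Y D T : Subgroup G) (n : G) : Prop where
  VM : V ≤ M
  RV : R ≤ V
  YV : Y ≤ V
  DR : D ≤ R
  TM : T ≤ M
  nM : n ∈ M
  split : ∀ v ∈ V, ∃ r ∈ R, ∃ y ∈ Y, v = r * y
  RY : ∀ y ∈ Y, y ∈ R → y = 1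
  tv : ∀ t ∈ T, ∀ x ∈ V, t * x * t⁻¹ ∈ V
  ty : ∀ t ∈ T, ∀ x ∈ Y, t * x * t⁻¹ ∈ Y
  rn : ∀ m ∈ M, ∀ x ∈ R, m * x * m⁻¹ ∈ R
  comm : ∀ s ∈ T, ∀ t ∈ T, s * t = t * s
  p2 : IsPGroup 2 V
  odd : Odd (Nat.card T)
  inv : ∀ t ∈ T, n * t * n⁻¹ = t⁻¹
  form : ∀ g ∈ M, (∃ b ∈ V, ∃ t ∈ T, g = b * t) ∨ ∃ b ∈ V, ∃ t ∈ T, ∃ x ∈ V, g = b * (t * n) * x
  oppY : ∀ y ∈ Y, n * y * n⁻¹ ∈ V → y = 1
  fpf : ∀ t ∈ T, t ≠ 1 → ∀ y ∈ Y, t * y * t⁻¹ = y → y = 1
  fix : ∀ t ∈ T, t ≠ 1 → ∀ x ∈ R, t * x * t⁻¹ = x → x ∈ D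
  Yne : Y ≠ ⊥
  Tne : T ≠ ⊥

namespace RC

variable {M V R Y D T : Subgroup G} {n : G} (C : RC M V R Y D T n)
include C

theorem norm_V : T ≤ normalizer (V : Set G) := by
  intro t ht
  rw [mem_normalizer_iff]
  intro u
  refine ⟨fun h => C.tv t ht u h, fun h => ?_⟩
  have h2 := C.tv t⁻¹ (inv_mem ht) _ h
  have e : t⁻¹ * (t * u * t⁻¹) * t⁻¹⁻¹ = u := by group
  rwa [e] at h2

/-- powers of `v t` -/
theorem pow_form {v t : G} (hv : v ∈ V) (ht : t ∈ T) (m : ℕ) : ∃ w ∈ V, (v * t) ^ m = w * t ^ m := by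
  induction m with
  | zero => exact ⟨1, one_mem _, by simp⟩
  | succ m ih =>
    obtain ⟨w, hw, e⟩ := ih
    refine ⟨w * (t ^ m * v * (t ^ m)⁻¹), mul_mem hw (C.tv _ (pow_mem ht m) _ hv), ?_⟩
    rw [pow_succ, e, pow_succ]
    group

theorem opp {v : G} (hv : v ∈ V) (h : n * v * n⁻¹ ∈ V) : v ∈ R := by
  obtain ⟨r, hr, y, hy, rfl⟩ := C.split v hv
  have h1 : n * y * n⁻¹ ∈ V := by
    have h2 : n * r * n⁻¹ ∈ V := C.RV (C.rn n C.nM r hr)
    have e : n * y * n⁻¹ = (n * r * n⁻¹)⁻¹ * (n * (r * y) * n⁻¹) := by group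
    rw [e]
    exact mul_mem (inv_mem h2) h
  rw [C.oppY y hy h1, mul_one]
  exact hr

theorem R_ne_V : R ≠ V := by
  intro h
  apply C.Yne
  rw [eq_bot_iff]
  intro y hy
  rw [mem_bot]
  exact C.RY y hy (by rw [h]; exact C.YV hy)

variable [Finite G]

theorem inf_eq {t : G} (ht : t ∈ T) (hv : t ∈ V) : t = 1 := by
  obtain ⟨k, hk⟩ := C.p2 ⟨t, hv⟩
  have h1 : t ^ 2 ^ k = 1 := congrArg Subtype.val hk
  have h2 : orderOf t ∣ 2 ^ k := orderOf_dvd_of_pow_eq_one h1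
  have h3 : orderOf t ∣ Nat.card T := orderOf_dvd_natCard T ht
  have h4 : (2 ^ k).Coprime (Nat.card T) := (Nat.coprime_two_left.2 C.odd).pow_left k
  rw [← orderOf_eq_one_iff]
  exact Nat.eq_one_of_dvd_coprimes h4 h2 h3

theorem odd_order {t : G} (ht : t ∈ T) : Odd (orderOf t) :=
  Odd.of_dvd_nat C.odd (orderOf_dvd_natCard T ht)

theorem sq_ne {t : G} (ht : t ∈ T) (h : t ≠ 1) : t⁻¹ * t⁻¹ ≠ 1 := by
  intro h1
  apply h
  have h2 : t ^ 2 = 1 := by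
    rw [pow_two]
    have : (t⁻¹ * t⁻¹)⁻¹ = 1 := by rw [h1, inv_one]
    rwa [mul_inv_rev, inv_inv] at this
  have h3 : orderOf t ∣ 2 := orderOf_dvd_of_pow_eq_one h2
  rcases (Nat.dvd_prime Nat.prime_two).1 h3 with h4 | h4
  · exact orderOf_eq_one_iff.1 h4
  · exfalso
    have h5 := C.odd_order ht
    rw [h4] at h5
    exact absurd h5 (by decide)

/-- elements of odd order in `V T` -/
theorem exists_conj_T {v t : G} (hv : v ∈ V) (ht : t ∈ T) (ho : Odd (orderOf (v * t))) :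
    ∃ u ∈ V, u * (v * t) * u⁻¹ ∈ T := by
  have hcop : ∀ A : Subgroup G, Odd (Nat.card A) → (Nat.card A).Coprime (Nat.card V) := by
    intro A hA
    obtain ⟨k, hk⟩ := IsPGroup.iff_card.1 C.p2
    rw [hk]
    exact (Nat.coprime_two_right.2 hA).pow_right k
  have hA : Odd (Nat.card (zpowers t)) := by rw [Nat.card_zpowers]; exact C.odd_order ht
  have hB : Odd (Nat.card (zpowers (v * t))) := by rw [Nat.card_zpowers]; exact ho
  have h1 : orderOf (v * t) ∣ orderOf t := by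
    obtain ⟨w, hw, e⟩ := C.pow_form hv ht (orderOf t)
    rw [pow_orderOf_eq_one, mul_one] at e
    have h2 : orderOf ((v * t) ^ orderOf t) ∣ Nat.card V := orderOf_dvd_natCard V (by rw [e]; exact hw)
    have h3 : orderOf ((v * t) ^ orderOf t) ∣ Nat.card (zpowers (v * t)) := by
      rw [Nat.card_zpowers]; exact orderOf_pow_dvd _
    have h4 := Nat.eq_one_of_dvd_coprimes (hcop _ hB) h3 h2
    exact orderOf_dvd_of_pow_eq_one (orderOf_eq_one_iff.1 h4)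
  have h2 : orderOf t ∣ orderOf (v * t) := by
    obtain ⟨w, hw, e⟩ := C.pow_form hv ht (orderOf (v * t))
    rw [pow_orderOf_eq_one] at e
    have h3 : t ^ orderOf (v * t) ∈ V := by
      have h4 : t ^ orderOf (v * t) = w⁻¹ := eq_inv_of_mul_eq_one_right e.symm
      rw [h4]
      exact inv_mem hw
    exact orderOf_dvd_of_pow_eq_one (C.inf_eq (pow_mem ht _) h3)
  have h3 : v * t ∈ V ⊔ zpowers t := mul_mem (mem_sup_left hv) (mem_sup_right (mem_zpowers t))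
  have hsol : Group.IsSolvable (zpowers t) := Group.isSolvable_of_comm fun a b => by
    obtain ⟨i, hi⟩ := mem_zpowers_iff.1 a.2
    obtain ⟨j, hj⟩ := mem_zpowers_iff.1 b.2
    apply Subtype.ext
    rw [coe_mul, coe_mul, ← hi, ← hj, ← zpow_add, ← zpow_add, add_comm]
  obtain ⟨u, hu, h4⟩ := S0030.exists_conj_eq (zpowers t) V (zpowers (v * t))
    ((zpowers_le.2 ht).trans C.norm_V) (hcop _ hA) (Or.inl hsol) (zpowers_le.2 h3)
    (by rw [Nat.card_zpowers, Nat.card_zpowers]; exact Nat.dvd_antisymm h1 h2)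
  refine ⟨u⁻¹, inv_mem hu, ?_⟩
  have h5 : v * t ∈ MulAut.conj u • zpowers t := by rw [h4]; exact mem_zpowers _
  rw [mem_pointwise_smul_iff_inv_smul_mem, ← map_inv, MulAut.smul_def, MulAut.conj_apply, inv_inv] at h5
  rw [inv_inv]
  exact (zpowers_le.2 ht) h5

/-- centralisers in `R` of elements of `V T` outside of `V` -/
theorem card_le {v t : G} (hv : v ∈ V) (ht : t ∈ T) (h1 : t ≠ 1) {X : Subgroup G} (hX : X ≤ R)
    (hc : ∀ x ∈ X, (v * t) * x = x * (v * t)) : Nat.card X ≤ Nat.card D := by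
  obtain ⟨k, m, hm, hkm⟩ := Nat.exists_eq_two_pow_mul_odd (orderOf_pos (v * t)).ne'
  obtain ⟨w, hw, e⟩ := C.pow_form hv ht (2 ^ k)
  have ho : orderOf ((v * t) ^ 2 ^ k) = m := by
    rw [orderOf_pow_of_dvd (by positivity) (by rw [hkm]; exact dvd_mul_right _ _), hkm,
      Nat.mul_div_cancel_left _ (by positivity)]
  have ho' : Odd (orderOf (w * t ^ 2 ^ k)) := by rw [← e, ho]; exact hm
  obtain ⟨u, hu, h2⟩ := C.exists_conj_T hw (pow_mem ht _) ho'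
  have hs1 : u * (w * t ^ 2 ^ k) * u⁻¹ ≠ 1 := by
    intro h
    rw [conj_eq_one_iff] at h
    have h3 : t ^ 2 ^ k ∈ V := by
      have h4 : t ^ 2 ^ k = w⁻¹ := eq_inv_of_mul_eq_one_right h
      rw [h4]
      exact inv_mem hw
    have h4 := C.inf_eq (pow_mem ht _) h3
    have h5 : orderOf t ∣ 2 ^ k := orderOf_dvd_of_pow_eq_one h4
    have h6 : (2 ^ k).Coprime (orderOf t) := (Nat.coprime_two_left.2 (C.odd_order ht)).pow_left k
    exact h1 (orderOf_eq_one_iff.1 (Nat.eq_one_of_dvd_coprimes h6 h5 dvd_rfl))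
  have h3 : ∀ x ∈ X, u * x * u⁻¹ ∈ D := by
    intro x hx
    refine C.fix _ h2 hs1 _ (C.rn u (C.VM hu) x (hX hx)) ?_
    have h4 : Commute (v * t) x := hc x hx
    have h5 : (w * t ^ 2 ^ k) * x = x * (w * t ^ 2 ^ k) := by
      rw [← e]
      exact (h4.pow_left (2 ^ k)).eq
    calc u * (w * t ^ 2 ^ k) * u⁻¹ * (u * x * u⁻¹) * (u * (w * t ^ 2 ^ k) * u⁻¹)⁻¹
        = u * ((w * t ^ 2 ^ k) * x) * (w * t ^ 2 ^ k)⁻¹ * u⁻¹ := by group
      _ = u * (x * (w * t ^ 2 ^ k)) * (w * t ^ 2 ^ k)⁻¹ * u⁻¹ := by rw [h5]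
      _ = _ := by group
  refine Nat.card_le_card_of_injective (fun x : X => (⟨u * x * u⁻¹, h3 x x.2⟩ : D)) fun x y hxy => ?_
  have h4 : u * (x : G) * u⁻¹ = u * y * u⁻¹ := congrArg Subtype.val hxy
  exact Subtype.ext (mul_left_cancel (mul_right_cancel h4))

/-- **the centralisers in `R` of the elements `≠ 1` of odd order of `M`** -/
theorem card_sq {y : G} (hy : y ∈ M) (hy1 : y ≠ 1) (ho : Odd (orderOf y)) {X : Subgroup G} (hX : X ≤ R)
    (hc : ∀ x ∈ X, y * x = x * y) : Nat.card X ^ 2 ≤ Nat.card R * Nat.card D := by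
  have hDR : Nat.card D ≤ Nat.card R := card_le_of_le C.DR
  rcases C.form y hy with ⟨b, hb, t, ht, rfl⟩ | ⟨b, hb, t, ht, x, hx, rfl⟩
  · have ht1 : t ≠ 1 := by
      rintro rfl
      rw [mul_one] at hy1 ho
      obtain ⟨k, hk⟩ := C.p2 ⟨b, hb⟩
      have h1 : b ^ 2 ^ k = 1 := congrArg Subtype.val hk
      have h2 : orderOf b ∣ 2 ^ k := orderOf_dvd_of_pow_eq_one h1
      have h4 : (2 ^ k).Coprime (orderOf b) := (Nat.coprime_two_left.2 ho).pow_left k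
      exact hy1 (orderOf_eq_one_iff.1 (Nat.eq_one_of_dvd_coprimes h4 h2 dvd_rfl))
    have h1 := C.card_le hb ht ht1 hX hc
    rw [pow_two]
    exact Nat.mul_le_mul (h1.trans hDR) h1
  · obtain ⟨h, hh, hh1⟩ := (bot_or_exists_ne_one T).resolve_left C.Tne
    -- `y₁ = x y x⁻¹`, `y₂ = h y₁ h⁻¹`
    have hxM := C.VM hx
    have hhM := C.TM hh
    let X₁ : Subgroup G := X.map (MulAut.conj x).toMonoidHom
    let X₂ : Subgroup G := X₁.map (MulAut.conj h).toMonoidHom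
    have c1 : Nat.card X₁ = Nat.card X := Nat.card_congr (X.equivMapOfInjective _ (MulAut.conj x).injective).toEquiv.symm
    have c2 : Nat.card X₂ = Nat.card X := by
      rw [← c1]
      exact Nat.card_congr (X₁.equivMapOfInjective _ (MulAut.conj h).injective).toEquiv.symm
    have r1 : X₁ ≤ R := by
      rintro _ ⟨z, hz, rfl⟩
      exact C.rn x hxM z (hX hz)
    have r2 : X₂ ≤ R := by
      rintro _ ⟨z, hz, rfl⟩
      exact C.rn h hhM z (r1 hz)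
    have k1 : ∀ z ∈ X₁, (x * b * (t * n)) * z = z * (x * b * (t * n)) := by
      rintro _ ⟨z, hz, rfl⟩
      show x * b * (t * n) * (x * z * x⁻¹) = x * z * x⁻¹ * (x * b * (t * n))
      have h1 := hc z hz
      calc x * b * (t * n) * (x * z * x⁻¹) = x * (b * (t * n) * x * z) * x⁻¹ := by group
        _ = x * (z * (b * (t * n) * x)) * x⁻¹ := by rw [h1]
        _ = _ := by group
    have k2 : ∀ z ∈ X₂, (h * (x * b * (t * n)) * h⁻¹) * z = z * (h * (x * b * (t * n)) * h⁻¹) := by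
      rintro _ ⟨z, hz, rfl⟩
      show h * (x * b * (t * n)) * h⁻¹ * (h * z * h⁻¹) = h * z * h⁻¹ * (h * (x * b * (t * n)) * h⁻¹)
      have h1 := k1 z hz
      calc h * (x * b * (t * n)) * h⁻¹ * (h * z * h⁻¹) = h * ((x * b * (t * n)) * z) * h⁻¹ := by group
        _ = h * (z * (x * b * (t * n))) * h⁻¹ := by rw [h1]
        _ = _ := by group
    -- `s = y₁ y₂⁻¹`
    have es : (x * b * (t * n)) * (h * (x * b * (t * n)) * h⁻¹)⁻¹ =
        ((x * b) * (h⁻¹ * (x * b)⁻¹ * h⁻¹⁻¹)) * (h⁻¹ * h⁻¹) := by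
      have e1 := C.inv h hh
      have e2 : t * h⁻¹ = h⁻¹ * t := C.comm t ht _ (inv_mem hh)
      calc (x * b * (t * n)) * (h * (x * b * (t * n)) * h⁻¹)⁻¹
          = (x * b) * (t * (n * h * n⁻¹) * t⁻¹) * (x * b)⁻¹ * h⁻¹ := by group
        _ = (x * b) * (t * h⁻¹ * t⁻¹) * (x * b)⁻¹ * h⁻¹ := by rw [e1]
        _ = (x * b) * (h⁻¹ * t * t⁻¹) * (x * b)⁻¹ * h⁻¹ := by rw [e2]
        _ = _ := by group
    have hxb : x * b ∈ V := mul_mem hx hb
    have hv : (x * b) * (h⁻¹ * (x * b)⁻¹ * h⁻¹⁻¹) ∈ V := mul_mem hxb (C.tv _ (inv_mem hh) _ (inv_mem hxb))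
    have k3 : ∀ z ∈ X₁ ⊓ X₂, (((x * b) * (h⁻¹ * (x * b)⁻¹ * h⁻¹⁻¹)) * (h⁻¹ * h⁻¹)) * z =
        z * (((x * b) * (h⁻¹ * (x * b)⁻¹ * h⁻¹⁻¹)) * (h⁻¹ * h⁻¹)) := by
      intro z hz
      rw [← es]
      have h1 : Commute (x * b * (t * n)) z := k1 z hz.1
      have h2 : Commute (h * (x * b * (t * n)) * h⁻¹) z := k2 z hz.2
      exact (h1.mul_left h2.inv_left).eq
    have c3 := C.card_le hv (mul_mem (inv_mem hh) (inv_mem hh)) (C.sq_ne hh hh1) (inf_le_left.trans r1) k3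
    have c4 : Nat.card X₁ * Nat.card X₂ ≤ Nat.card R * Nat.card (X₁ ⊓ X₂ : Subgroup G) := by
      rw [← Cfsg.Agent.Lib.ProductSet.card_mul_card_inf X₁ X₂]
      refine Nat.mul_le_mul_right _ (Nat.card_mono (Set.toFinite (R : Set G)) ?_)
      rintro _ ⟨a, ha, b, hb, rfl⟩
      exact mul_mem (r1 ha) (r2 hb)
    rw [c1, c2, ← pow_two] at c4
    exact c4.trans (Nat.mul_le_mul_left _ c3)

/-- an element of `V` commuting with an element `≠ 1` of odd order of `M` lies in `R` -/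
theorem mem_R {y a : G} (hy : y ∈ M) (hy1 : y ≠ 1) (ho : Odd (orderOf y)) (ha : a ∈ V) (hc : y * a = a * y) :
    a ∈ R := by
  rcases C.form y hy with ⟨b, hb, t, ht, rfl⟩ | ⟨b, hb, t, ht, x, hx, rfl⟩
  · have ht1 : t ≠ 1 := by
      rintro rfl
      rw [mul_one] at hy1 ho
      obtain ⟨k, hk⟩ := C.p2 ⟨b, hb⟩
      have h1 : b ^ 2 ^ k = 1 := congrArg Subtype.val hk
      have h2 : orderOf b ∣ 2 ^ k := orderOf_dvd_of_pow_eq_one h1
      have h4 : (2 ^ k).Coprime (orderOf b) := (Nat.coprime_two_left.2 ho).pow_left k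
      exact hy1 (orderOf_eq_one_iff.1 (Nat.eq_one_of_dvd_coprimes h4 h2 dvd_rfl))
    obtain ⟨r, hr, y, hy', rfl⟩ := C.split b hb
    obtain ⟨r', hr', a, ha', rfl⟩ := C.split a ha
    -- `y t = s t s⁻¹` modulo `Y`
    let f : Y → Y := fun s => ⟨s * (t * (s : G)⁻¹ * t⁻¹), mul_mem s.2 (C.ty t ht _ (inv_mem s.2))⟩
    have hf : Function.Injective f := by
      intro s s' hss
      have h1 : (s : G) * (t * (s : G)⁻¹ * t⁻¹) = s' * (t * (s' : G)⁻¹ * t⁻¹) := congrArg Subtype.val hss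
      have h2 : t * ((s' : G)⁻¹ * s) * t⁻¹ = (s' : G)⁻¹ * s := by
        calc t * ((s' : G)⁻¹ * s) * t⁻¹
            = (s' : G)⁻¹ * (s' * (t * (s' : G)⁻¹ * t⁻¹)) * (t * s * t⁻¹) := by group
          _ = (s' : G)⁻¹ * (s * (t * (s : G)⁻¹ * t⁻¹)) * (t * s * t⁻¹) := by rw [h1]
          _ = _ := by group
      have h3 := C.fpf t ht ht1 _ (mul_mem (inv_mem s'.2) s.2) h2
      exact Subtype.ext (inv_mul_eq_one.1 h3).symm
    obtain ⟨s, hs⟩ := (Finite.surjective_of_injective hf) ⟨y, hy'⟩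
    have hs' : (s : G) * (t * (s : G)⁻¹ * t⁻¹) = y := congrArg Subtype.val hs
    have hsY := s.2
    -- modulo `R`
    have h1 : y * t * a * (y * t)⁻¹ * a⁻¹ ∈ Y := by
      have e : y * t * a * (y * t)⁻¹ * a⁻¹ = y * (t * a * t⁻¹) * y⁻¹ * a⁻¹ := by group
      rw [e]
      exact mul_mem (mul_mem (mul_mem hy' (C.ty t ht a ha')) (inv_mem hy')) (inv_mem ha')
    have h2 : y * t * a * (y * t)⁻¹ * a⁻¹ ∈ R := by
      have hy2 : y * t ∈ M := mul_mem (C.VM (C.YV hy')) (C.TM ht)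
      have ha2 : a ∈ M := C.VM (C.YV ha')
      have e : y * t * a * (y * t)⁻¹ * a⁻¹ = (y * t * r' * (y * t)⁻¹)⁻¹ * (r⁻¹ * (r' * (a * r * a⁻¹))) := by
        calc y * t * a * (y * t)⁻¹ * a⁻¹
            = (y * t * r' * (y * t)⁻¹)⁻¹ * (r⁻¹ * ((r * y * t * (r' * a)) * (y * t)⁻¹ * a⁻¹)) := by group
          _ = (y * t * r' * (y * t)⁻¹)⁻¹ * (r⁻¹ * ((r' * a * (r * y * t)) * (y * t)⁻¹ * a⁻¹)) := by rw [hc]
          _ = _ := by group
      rw [e]
      exact mul_mem (inv_mem (C.rn _ hy2 _ hr')) (mul_mem (inv_mem hr) (mul_mem hr' (C.rn _ ha2 _ hr)))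
    have h3 := C.RY _ h1 h2
    have h4 : t * ((s : G)⁻¹ * a * s) * t⁻¹ = (s : G)⁻¹ * a * s := by
      rw [← hs'] at h3
      have h5 : (s : G) * t * (s : G)⁻¹ * a * ((s : G) * t * (s : G)⁻¹)⁻¹ = a := by
        have : (s : G) * (t * (s : G)⁻¹ * t⁻¹) * t * a * ((s : G) * (t * (s : G)⁻¹ * t⁻¹) * t)⁻¹ = a :=
          mul_inv_eq_one.1 h3
        calc _ = (s : G) * (t * (s : G)⁻¹ * t⁻¹) * t * a * ((s : G) * (t * (s : G)⁻¹ * t⁻¹) * t)⁻¹ := by group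
          _ = a := this
      calc t * ((s : G)⁻¹ * a * s) * t⁻¹ = (s : G)⁻¹ * ((s : G) * t * (s : G)⁻¹ * a * ((s : G) * t * (s : G)⁻¹)⁻¹) * s := by
            group
        _ = _ := by rw [h5]
    have h5 := C.fpf t ht ht1 _ (mul_mem (mul_mem (inv_mem hsY) ha') hsY) h4
    have h6 : a = 1 := by
      have : a = s * ((s : G)⁻¹ * a * s) * (s : G)⁻¹ := by group
      rw [this, h5]
      group
    rw [h6, mul_one]
    exact hr'
  · -- `n (x a x⁻¹) n⁻¹ = t⁻¹ b⁻¹ a b t`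
    have h1 : n * (x * a * x⁻¹) * n⁻¹ = t⁻¹ * (b⁻¹ * a * b) * t⁻¹⁻¹ := by
      calc n * (x * a * x⁻¹) * n⁻¹ = t⁻¹ * b⁻¹ * ((b * (t * n) * x) * a) * (b * (t * n) * x)⁻¹ * b * t := by group
        _ = t⁻¹ * b⁻¹ * (a * (b * (t * n) * x)) * (b * (t * n) * x)⁻¹ * b * t := by rw [hc]
        _ = _ := by group
    have h2 : n * (x * a * x⁻¹) * n⁻¹ ∈ V := by
      rw [h1]
      exact C.tv _ (inv_mem ht) _ (mul_mem (mul_mem (inv_mem hb) ha) hb)
    have h3 := C.opp (mul_mem (mul_mem hx ha) (inv_mem hx)) h2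
    have h4 := C.rn x⁻¹ (inv_mem (C.VM hx)) _ h3
    have e : x⁻¹ * (x * a * x⁻¹) * x⁻¹⁻¹ = a := by group
    rwa [e] at h4

/-- `V` is a Sylow 2-subgroup of `M` -/
theorem exists_sylow : ∃ P : Sylow 2 M, (P : Subgroup M) = V.subgroupOf M := by
  have hfact : Fact (Nat.Prime 2) := ⟨Nat.prime_two⟩
  have hU2 : IsPGroup 2 (V.subgroupOf M) := C.p2.comap_of_injective M.subtype M.subtype_injective
  obtain ⟨P, hP⟩ := hU2.exists_le_sylow
  refine ⟨P, ?_⟩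
  by_contra hne
  have hlt : V.subgroupOf M < (P : Subgroup M) := lt_of_le_of_ne hP (fun h => hne h.symm)
  have hnil : Group.IsNilpotent (P : Subgroup M) := P.2.isNilpotent
  have hnc := (Group.normalizerCondition_of_isNilpotent (G := (P : Subgroup M))) ((V.subgroupOf M).subgroupOf P)
    (lt_top_iff_ne_top.2 fun h => by
      rw [Subgroup.subgroupOf_eq_top] at h
      exact absurd h (not_le_of_gt hlt))
  obtain ⟨g, hgN, hgU⟩ := SetLike.exists_of_lt hnc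
  have hg : ∀ x ∈ V, ((g : M) : G) * x * ((g : M) : G)⁻¹ ∈ V := by
    intro x hx
    have h1 := (Subgroup.mem_normalizer_iff.1 hgN ⟨⟨x, C.VM hx⟩, hP (mem_subgroupOf.2 hx)⟩).1 hx
    exact h1
  have hgV : ((g : M) : G) ∉ V := fun h => hgU h
  rcases C.form _ (g : M).2 with ⟨b, hb, t, ht, e⟩ | ⟨b, hb, t, ht, x, hx, e⟩
  · apply hgV
    have h1 : (⟨t, C.TM ht⟩ : M) ∈ (P : Subgroup M) := by
      have h2 : (⟨t, C.TM ht⟩ : M) = (⟨b, C.VM hb⟩ : M)⁻¹ * (g : M) := by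
        apply Subtype.ext
        show t = b⁻¹ * ((g : M) : G)
        rw [e]
        group
      rw [h2]
      exact mul_mem (inv_mem (hP (mem_subgroupOf.2 hb))) g.2
    obtain ⟨k, hk⟩ := P.2 ⟨_, h1⟩
    have h3 : t ^ 2 ^ k = 1 := congrArg (fun z : (P : Subgroup M) => ((z : M) : G)) hk
    have h5 : orderOf t ∣ 2 ^ k := orderOf_dvd_of_pow_eq_one h3
    have h6 : (2 ^ k).Coprime (orderOf t) := (Nat.coprime_two_left.2 (C.odd_order ht)).pow_left k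
    have h7 := orderOf_eq_one_iff.1 (Nat.eq_one_of_dvd_coprimes h6 h5 dvd_rfl)
    rw [e, h7, mul_one]
    exact hb
  · apply C.R_ne_V
    refine le_antisymm C.RV fun v hv => ?_
    apply C.opp hv
    have h1 := hg (x⁻¹ * v * x) (mul_mem (mul_mem (inv_mem hx) hv) hx)
    have e1 : n * v * n⁻¹ = t⁻¹ * (b⁻¹ * (((g : M) : G) * (x⁻¹ * v * x) * ((g : M) : G)⁻¹) * b) * t⁻¹⁻¹ := by
      rw [e]
      group
    rw [e1]
    exact C.tv _ (inv_mem ht) _ (mul_mem (mul_mem (inv_mem hb) h1) hb)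

/-- the 2-elements of `M` are conjugate into `V` -/
theorem exists_conj {a : G} (ha : a ∈ M) {k : ℕ} (hk : a ^ 2 ^ k = 1) : ∃ m ∈ M, m * a * m⁻¹ ∈ V := by
  have hfact : Fact (Nat.Prime 2) := ⟨Nat.prime_two⟩
  obtain ⟨P, hP⟩ := C.exists_sylow
  have h1 : IsPGroup 2 (zpowers (⟨a, ha⟩ : M)) := by
    obtain ⟨j, -, hj⟩ := (Nat.dvd_prime_pow Nat.prime_two).1 (orderOf_dvd_of_pow_eq_one hk)
    refine IsPGroup.of_card (n := j) ?_
    rw [Nat.card_zpowers, Subgroup.orderOf_mk, hj]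
  obtain ⟨Q, hQ⟩ := h1.exists_le_sylow
  obtain ⟨m, hm⟩ := MulAction.exists_smul_eq M Q P
  refine ⟨m, m.2, ?_⟩
  have h2 : m * ⟨a, ha⟩ * m⁻¹ ∈ (P : Subgroup M) := by
    rw [← hm, Sylow.coe_subgroup_smul, mem_pointwise_smul_iff_inv_smul_mem, ← map_inv, MulAut.smul_def,
      MulAut.conj_apply, inv_inv]
    have e : m⁻¹ * (m * ⟨a, ha⟩ * m⁻¹) * m = ⟨a, ha⟩ := by group
    rw [e]
    exact hQ (mem_zpowers _)
  rw [hP] at h2
  exact mem_subgroupOf.1 h2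

/-- **2-subgroups of `M` commuting with an element `≠ 1` of odd order of `M`** -/
theorem le_R {y : G} (hy : y ∈ M) (hy1 : y ≠ 1) (ho : Odd (orderOf y)) {X : Subgroup G} (hX : X ≤ M)
    (h2 : IsPGroup 2 X) (hc : ∀ x ∈ X, y * x = x * y) : X ≤ R := by
  intro a ha
  obtain ⟨k, hk⟩ := h2 ⟨a, ha⟩
  have hk' : a ^ 2 ^ k = 1 := congrArg Subtype.val hk
  obtain ⟨m, hm, h1⟩ := C.exists_conj (hX ha) hk'
  have h3 : m * a * m⁻¹ ∈ R := by
    refine C.mem_R (y := m * y * m⁻¹) (mul_mem (mul_mem hm hy) (inv_mem hm)) ?_ ?_ h1 ?_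
    · intro h
      exact hy1 (conj_eq_one_iff.1 h)
    · have e : m * y * m⁻¹ = MulAut.conj m y := rfl
      rw [e, MulEquiv.orderOf_eq]
      exact ho
    · have e := hc a ha
      calc m * y * m⁻¹ * (m * a * m⁻¹) = m * (y * a) * m⁻¹ := by group
        _ = m * (a * y) * m⁻¹ := by rw [e]
        _ = _ := by group
  have h4 := C.rn m⁻¹ (inv_mem hm) _ h3
  have e : m⁻¹ * (m * a * m⁻¹) * m⁻¹⁻¹ = a := by group
  rwa [e] at h4

end RC

end Cfsg.Agent.H743.AH
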